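import Cfsg.Agent.ChevTori.SelfCent
import Cfsg.Agent.ChevTori.Centralizer

/-!
Semisimple elements of a Chevalley group over a finite field seen in the split torus of an extension: the
Weyl element of the Frobenius twist, its eigenvectors, and descent of twisted torus elements.
-/

set_option autoImplicit false

namespace Cfsg.Agent.CG26.F4Graph

open Cfsg.Lie Cfsg.Agent.ChevGroup Cfsg.Agent.ChevCore Cfsg.Agent.ChevTori Cfsg.Agent.ChevFixed Matrix

universe u

/-- An extension of degree `d` of a finite field, with its Frobenius map. -/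
theorem exists_ext {F₀ : Type u} [Field F₀] [Fintype F₀] {q d : ℕ} (hq : Fintype.card F₀ = q) (hd : 0 < d) :
    ∃ (F : Type) (_ : Field F) (_ : Fintype F) (σ : F →+* F) (i : F₀ →+* F),
      Fintype.card F = q ^ d ∧ (∀ b, σ b = b ^ q) ∧ (∀ b, σ b = b ↔ ∃ y, i y = b) := by
  classical
  obtain ⟨p, hchar⟩ := CharP.exists F₀
  haveI : Fact p.Prime := ⟨(CharP.char_is_prime_or_zero F₀ p).resolve_right fun e => by
    subst e
    haveI := CharP.charP_to_charZero F₀
    exact not_finite F₀⟩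
  haveI : NeZero d := ⟨hd.ne'⟩
  let F := FiniteField.Extension F₀ p d
  letI : Fintype F := Fintype.ofFinite F
  refine ⟨F, inferInstance, inferInstance, (FiniteField.Extension.frob F₀ p d).toRingEquiv.toRingHom,
    algebraMap F₀ F, ?_, fun b => ?_, fun b => ⟨fun hb => ?_, ?_⟩⟩
  · rw [← hq, ← Nat.card_eq_fintype_card, ← Nat.card_eq_fintype_card]
    exact FiniteField.natCard_extension F₀ p d
  · rw [← hq, ← Nat.card_eq_fintype_card]
    exact FiniteField.Extension.frob_apply F₀ p d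
  · have hfix : ∀ g : Gal(F/F₀), g b = b := by
      intro g
      obtain ⟨m, -, rfl⟩ := FiniteField.Extension.exists_frob_pow_eq F₀ p d g
      induction m with
      | zero => rfl
      | succ m ih =>
        rw [pow_succ', AlgEquiv.mul_apply, ih]
        exact hb
    exact (IsGalois.mem_range_algebraMap_iff_fixed b).2 hfix
  · rintro ⟨y, rfl⟩
    exact (FiniteField.Extension.frob F₀ p d).commutes y

/-- The eigenvalue of an eigenvector modulo a prime is a root of the characteristic polynomial. -/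
theorem eval_charpoly_eq_zero {l : ℕ} {A : Matrix (Fin l) (Fin l) ℤ} {s q : ℕ} [Fact s.Prime]
    {b : Fin l → ZMod s} (hb : b ≠ 0)
    (h : A.map (Int.cast : ℤ → ZMod s) *ᵥ b = (q : ZMod s) • b) :
    (A.charpoly.map (Int.castRingHom (ZMod s))).eval (q : ZMod s) = 0 := by
  have h1 := aeval_mulVec_eigen h (A.charpoly.map (Int.castRingHom (ZMod s)))
  rw [show A.map (Int.cast : ℤ → ZMod s) = A.map (Int.castRingHom (ZMod s)) from rfl,
    ← Matrix.charpoly_map, Matrix.aeval_self_charpoly, Matrix.zero_mulVec] at h1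
  rw [← Matrix.charpoly_map]
  exact (smul_eq_zero.1 h1.symm).resolve_right hb

/-- A root of `Φ_e` of multiplicative order `e`. -/
theorem eval_cyclotomic_eq_zero {s q e : ℕ} [Fact s.Prime] (hq : orderOf (q : ZMod s) = e) (he : 0 < e) :
    (Polynomial.cyclotomic e (ZMod s)).eval (q : ZMod s) = 0 := by
  haveI : NeZero (e : ZMod s) := ⟨fun h => by
    have h0 : (q : ZMod s) ≠ 0 := fun h' => by rw [h', orderOf_zero] at hq; omega
    have h1 : e ∣ s - 1 := hq ▸ orderOf_dvd_of_pow_eq_one (ZMod.pow_card_sub_one_eq_one h0)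
    have h2 := (ZMod.natCast_eq_zero_iff e s).1 h
    have h3 := (Fact.out : s.Prime).two_le
    have h4 := Nat.le_of_dvd (by omega) h1
    have h5 := Nat.le_of_dvd he h2
    omega⟩
  exact Polynomial.isRoot_cyclotomic_iff.2 (hq ▸ IsPrimitiveRoot.orderOf _)

variable {D : ChevalleyDatum} (T : Model D) (hU : UGood D)
  {wit : List (List (Fin T.tab.l) × Fin T.tab.l)} (hwit : T.witB wit = true)
  {w₀ : List (Fin T.tab.l)} (hlong : T.longestB w₀ = true)
  (hspan : Mat.spanB D (T.posList.map Fin.val) = true)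
  {F : Type} [Field F] [Fintype F]

include hU in
/-- An `r`-subgroup of a subgroup containing the torus is conjugate into the torus, when the torus has the
full `r`-part of the order. -/
theorem conj_into {r : ℕ} [Fact r.Prime] {K : Subgroup ↥(D.group F)} (hHK : (rr T hU).H ≤ K)
    (hfac : (Nat.card ↥(D.group F)).factorization r = (Nat.card ↥(rr (F := F) T hU).H).factorization r)
    {S : Subgroup ↥(D.group F)} (hS : IsPGroup r S) (hSK : S ≤ K) :
    ∃ g ∈ K, ∀ y ∈ S, g * y * g⁻¹ ∈ (rr T hU).H := by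
  classical
  set H := (rr (F := F) T hU).H
  obtain ⟨P₀⟩ := (inferInstance : Nonempty (Sylow r H))
  let M : Subgroup K := (P₀.1.map H.subtype).subgroupOf K
  have hM1 : P₀.1.map H.subtype ≤ K := (Subgroup.map_subtype_le _).trans hHK
  have hMp : IsPGroup r M := (P₀.2.map H.subtype).of_equiv (Subgroup.subgroupOfEquivOfLe hM1).symm
  obtain ⟨Q, hQle⟩ := hMp.exists_le_sylow
  have hle1 : (Nat.card K).factorization r ≤ (Nat.card ↥(D.group F)).factorization r :=
    (Nat.factorization_le_iff_dvd Nat.card_pos.ne' Nat.card_pos.ne').2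
      (Subgroup.card_subgroup_dvd_card K) r
  have hcard : Nat.card Q ≤ Nat.card M := by
    rw [Nat.card_congr (Subgroup.subgroupOfEquivOfLe hM1).toEquiv,
      Subgroup.card_map_of_injective Subtype.coe_injective, Sylow.card_eq_multiplicity,
      Sylow.card_eq_multiplicity]
    exact Nat.pow_le_pow_right (Fact.out : r.Prime).pos (hfac ▸ hle1)
  have hQM : (Q : Subgroup K) = M := (Subgroup.eq_of_le_of_card_ge hQle hcard).symm
  obtain ⟨S', hS'⟩ :=
    (show IsPGroup r (S.subgroupOf K) from hS.of_equiv (Subgroup.subgroupOfEquivOfLe hSK).symm).exists_le_sylow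
  obtain ⟨g, hg⟩ := MulAction.exists_smul_eq (↥K) S' Q
  refine ⟨g.1, g.2, fun y hy => ?_⟩
  have h1 : g * ⟨y, hSK hy⟩ * g⁻¹ ∈ (Q : Subgroup K) := by
    rw [← hg]
    exact ⟨⟨y, hSK hy⟩, hS' hy, rfl⟩
  rw [hQM] at h1
  exact Subgroup.map_subtype_le _ h1

include hU hwit hlong hspan in
/-- The Weyl word of an element: conjugation between torus elements is conjugation by its monomial. -/
theorem exists_word (n : ↥(D.group F)) :
    ∃ v : List (Fin T.tab.l), ∀ t t' : ↥(D.group F), t ∈ (rr T hU).H → t' ∈ (rr T hU).H →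
      n * t * n⁻¹ = t' → (rr T hU).nw v * t * ((rr T hU).nw v)⁻¹ = t' := by
  set R := rr (F := F) T hU
  obtain ⟨b₁, hb₁, v, -, b₂, hb₂, hnd⟩ := R.exists_bruhat (g := n)
    ((T.group_top (relsOfCommGood hU.toCommGood F) hwit).symm ▸ Subgroup.mem_top n)
  exact ⟨v, fun t t' ht ht' e => conj_key T hU hlong hspan v ht ht' hb₁ hb₂ (by
    rw [← hnd, ← e]; group)⟩

/-- The matrix of the twist by a word. -/
noncomputable abbrev Av (v : List (Fin T.tab.l)) : Matrix (Fin T.tab.l) (Fin T.tab.l) ℤ :=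
  Pg T (pw T v.reverse)

theorem mpow_zeta {ζ : Fˣ} (A : Matrix (Fin T.tab.l) (Fin T.tab.l) ℤ) (b : Fin T.tab.l → ℤ)
    (j : Fin T.tab.l) : mpow A (fun k => ζ ^ b k) j = ζ ^ (A *ᵥ b) j := by
  simp only [mpow_apply, Matrix.mulVec, dotProduct]
  rw [ChevCore.zpow_sum']
  exact Finset.prod_congr rfl fun k _ => by rw [← _root_.zpow_mul, mul_comm]

include hU in
/-- The eigenvector modulo `r` of a torus element of order `r` raised to its `q`-th power by a twist. -/
theorem exists_eigen {r q : ℕ} [Fact r.Prime] {ζ : Fˣ} (hζ : orderOf ζ = r) {t : ↥(D.group F)}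
    (ht : t ∈ (rr T hU).H) (hto : orderOf t = r) {v : List (Fin T.tab.l)}
    (hv : (rr T hU).nw v * t * ((rr T hU).nw v)⁻¹ = t ^ q) :
    ∃ b : Fin T.tab.l → ℤ, psi T hU ⟨t, ht⟩ = (fun j => ζ ^ b j) ∧ (fun j => (b j : ZMod r)) ≠ 0 ∧
      (Av T v).map (Int.cast : ℤ → ZMod r) *ᵥ (fun j => (b j : ZMod r)) =
        (q : ZMod r) • (fun j => (b j : ZMod r)) := by
  classical
  have hr : r.Prime := Fact.out
  let t₁ : ↥(rr (F := F) T hU).H := ⟨t, ht⟩
  have ht₁r : t₁ ^ r = 1 := Subtype.ext (by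
    show t ^ r = 1
    rw [← hto]; exact pow_orderOf_eq_one _)
  have hψr : ∀ j, psi T hU t₁ j ^ r = 1 := fun j => by
    rw [← Pi.pow_apply, ← map_pow, ht₁r, map_one]; rfl
  choose b hb using fun j => Subgroup.mem_zpowers_iff.1 (mem_zpowers_of_pow_eq_one hr hζ (hψr j))
  have hζdvd : ∀ a : ℤ, ζ ^ a = 1 ↔ (r : ℤ) ∣ a := fun a => by
    rw [← hζ]; exact orderOf_dvd_iff_zpow_eq_one.symm
  have hpsi : psi T hU t₁ = fun k => ζ ^ b k := funext fun k => (hb k).symm
  refine ⟨b, hpsi, fun e => ?_, ?_⟩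
  · have h1 : t₁ = 1 := psi_injective T hU (by
      rw [map_one, hpsi]
      exact funext fun j => (hζdvd _).2 ((ZMod.intCast_zmod_eq_zero_iff_dvd _ r).1 (congrFun e j)))
    have h2 : t = 1 := congrArg Subtype.val h1
    rw [h2, orderOf_one] at hto
    exact hr.ne_one hto.symm
  · funext j
    have h1 := psi_conj T hU v t₁
    have h2 : (⟨(rr T hU).nw v * t₁.1 * ((rr T hU).nw v)⁻¹, nw_conj_mem_H _ v t₁.2⟩ : (rr (F := F) T hU).H) =
        t₁ ^ q := Subtype.ext hv
    rw [h2, map_pow, hpsi] at h1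
    have h3 := congrFun h1 j
    rw [Pi.pow_apply, mpow_zeta, ← zpow_natCast, ← _root_.zpow_mul] at h3
    have h4 : (r : ℤ) ∣ (Av T v *ᵥ b) j - (q : ℤ) * b j := by
      rw [← hζdvd, _root_.zpow_sub, ← h3, mul_comm (q : ℤ), mul_inv_cancel]
    have h5 := (ZMod.intCast_zmod_eq_zero_iff_dvd _ r).2 h4
    rw [Int.cast_sub, sub_eq_zero, Int.cast_mul, Int.cast_natCast] at h5
    rw [Pi.smul_apply, smul_eq_mul, ← h5]
    simp [Matrix.mulVec, dotProduct]

include hU in
/-- The roots trivial on a torus element of prime order. -/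
theorem chi_eq_one_iff {r : ℕ} {ζ : Fˣ} (hζ : orderOf ζ = r) {t : ↥(D.group F)} {ht : t ∈ (rr T hU).H}
    {b : Fin T.tab.l → ℤ} (hb : psi T hU ⟨t, ht⟩ = fun j => ζ ^ b j) (s : Fin T.tab.n) :
    chi T t s = 1 ↔ (r : ℤ) ∣ ev T b s := by
  rw [show t = (⟨t, ht⟩ : ↥(rr (F := F) T hU).H).1 from rfl, chi_cf T hU, hb, Units.val_eq_one, ← hζ,
    orderOf_dvd_iff_zpow_eq_one, ev, ChevCore.zpow_sum']
  refine Eq.congr_left (Finset.prod_congr rfl fun j _ => ?_)
  rw [← _root_.zpow_mul, mul_comm]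

include hU in
theorem cyclotomic_dvd {r q e : ℕ} [Fact r.Prime] (hq : orderOf (q : ZMod r) = e)
    (hW : ¬ r ∣ Nat.card (weyl T)) {v : List (Fin T.tab.l)} {b : Fin T.tab.l → ZMod r} (hb : b ≠ 0)
    (h : (Av T v).map (Int.cast : ℤ → ZMod r) *ᵥ b = (q : ZMod r) • b) :
    Polynomial.cyclotomic e ℤ ∣ (Av T v).charpoly := by
  have hγ : pw T v.reverse ∈ weyl T := prod_mem_weyl T _
  refine cyclotomic_dvd_charpoly (M := orderOf (pw T v.reverse)) ?_ ?_ hq hb h
  · rw [← Pg_pow hU.toCommGood.toGood hγ, pow_orderOf_eq_one, Pg_one hU.toCommGood.toGood]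
  · intro hd
    refine hW (hd.trans ?_)
    rw [← Subgroup.orderOf_mk (pw T v.reverse) hγ]
    exact orderOf_dvd_natCard _

include hU in
theorem psi_surjective (hH : Nat.card ↥(D.diagonalSubgroup F) = (Fintype.card F - 1) ^ T.tab.l) :
    Function.Surjective (psi (F := F) T hU) := by
  classical
  haveI : Finite (Fin T.tab.l → Fˣ) := inferInstance
  refine ((psi_injective T hU).bijective_of_nat_card_le ?_).2
  rw [← T.card_H_eq (relsOfCommGood hU.toCommGood F), hH, Nat.card_pi, Finset.prod_const,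
    Finset.card_univ, Fintype.card_fin, Nat.card_eq_fintype_card, Fintype.card_units]

include hU in
/-- A torus element of prime order in the twisted torus, from a root of the characteristic polynomial. -/
theorem exists_torus {s q : ℕ} [Fact s.Prime] (hsurj : Function.Surjective (psi (F := F) T hU))
    (hs : s ∣ Fintype.card F - 1) {v : List (Fin T.tab.l)}
    (h0 : ((Av T v).charpoly.map (Int.castRingHom (ZMod s))).eval (q : ZMod s) = 0) :
    ∃ t ∈ (rr (F := F) T hU).H, orderOf t = s ∧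
      (rr T hU).nw v * t * ((rr T hU).nw v)⁻¹ = t ^ q := by
  classical
  have hsp : s.Prime := Fact.out
  rw [← Matrix.charpoly_map, Matrix.eval_charpoly, ← Matrix.exists_mulVec_eq_zero_iff] at h0
  obtain ⟨w, hw0, hw⟩ := h0
  obtain ⟨ζ, hζ⟩ := exists_prime_orderOf_dvd_card' (G := Fˣ) s (by
    rwa [Nat.card_eq_fintype_card, Fintype.card_units])
  let b : Fin T.tab.l → ℤ := fun j => ((w j).val : ℤ)
  have hbw : (fun j => (b j : ZMod s)) = w := funext fun j => by simp [b]
  obtain ⟨t, ht⟩ := hsurj (fun j => ζ ^ b j)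
  have hζdvd : ∀ a : ℤ, ζ ^ a = 1 ↔ (s : ℤ) ∣ a := fun a => by
    rw [← hζ]; exact orderOf_dvd_iff_zpow_eq_one.symm
  have ht1 : t ^ s = 1 := psi_injective T hU (by
    rw [map_pow, map_one, ht]
    funext j
    rw [Pi.pow_apply, Pi.one_apply, ← zpow_natCast, ← _root_.zpow_mul, hζdvd]
    exact dvd_mul_left _ _)
  have ht0 : t ≠ 1 := by
    intro e
    apply hw0
    rw [← hbw]
    funext j
    have h1 := congrFun ((congrArg (psi T hU) e).symm.trans ht) j
    rw [map_one, Pi.one_apply, eq_comm, hζdvd] at h1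
    exact (ZMod.intCast_zmod_eq_zero_iff_dvd _ _).2 h1
  refine ⟨t.1, t.2, by rw [Subgroup.orderOf_coe]; exact orderOf_eq_prime ht1 ht0, ?_⟩
  have key : (⟨(rr T hU).nw v * t.1 * ((rr T hU).nw v)⁻¹, nw_conj_mem_H _ v t.2⟩ : (rr (F := F) T hU).H) =
      t ^ q := by
    refine psi_injective T hU ?_
    rw [psi_conj T hU v, map_pow, ht]
    funext j
    rw [Pi.pow_apply, mpow_zeta, ← zpow_natCast, ← _root_.zpow_mul]
    refine (inv_mul_eq_one.1 ?_).symm
    rw [← _root_.zpow_neg, ← _root_.zpow_add, hζdvd, ← ZMod.intCast_zmod_eq_zero_iff_dvd]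
    have h2 := congrFun hw j
    rw [Matrix.sub_mulVec, Pi.sub_apply, Matrix.scalar_apply, Matrix.mulVec_diagonal, Pi.zero_apply,
      sub_eq_zero, ← hbw] at h2
    have h3 : (((Av T v *ᵥ b) j : ℤ) : ZMod s) =
        ((Av T v).map (Int.castRingHom (ZMod s)) *ᵥ fun k => (b k : ZMod s)) j := by
      simp [Matrix.mulVec, dotProduct]
    push_cast
    rw [h3, ← h2]
    ring
  exact congrArg Subtype.val key

include hU in
/-- A Weyl element fixing a family of vectors modulo `r` on which every root is nonzero is trivial. -/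
theorem stab_trivial {ι : Type} (I : Finset ι) (b : ι → Fin T.tab.l → ℤ) {r : ℕ} [Fact r.Prime]
    (hfix : ∀ x ∈ weyl T, (∀ s, T.S.pos s → T.S.pos (x s)) → x = 1)
    (hW : ¬ r ∣ Nat.card (weyl T)) (hreg : ∀ s, ∃ k ∈ I, ¬ (r : ℤ) ∣ ev T (b k) s)
    {δ : Equiv.Perm (Fin T.tab.n)} (hδw : δ ∈ weyl T) (hδ : ∀ k ∈ I, δ ∈ stab T (b k) r) : δ = 1 := by
  classical
  have hG := hU.toCommGood.toGood
  have key : ∀ J ⊆ I, ∃ a : Fin T.tab.l → ℤ, (∀ s, ev T a (δ s) = ev T a s) ∧
      ∀ s, (∃ k ∈ J, ev T (avg T (b k) r) s ≠ 0) → ev T a s ≠ 0 := by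
    intro J
    induction J using Finset.induction_on with
    | empty => exact fun _ => ⟨0, fun s => by simp [ev], fun s ⟨k, hk, _⟩ => absurd hk (Finset.notMem_empty k)⟩
    | insert k J hk ih =>
      intro hJ
      obtain ⟨a, ha1, ha2⟩ := ih fun x hx => hJ (Finset.mem_insert_of_mem hx)
      set N : ℤ := ∑ s, |ev T (avg T (b k) r) s| + 1 with hN
      have hlin : ∀ s, ev T (N • a + avg T (b k) r) s = N * ev T a s + ev T (avg T (b k) r) s := by
        intro s
        simp only [ev, Finset.mul_sum, ← Finset.sum_add_distrib, Pi.add_apply, Pi.smul_apply, smul_eq_mul]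
        exact Finset.sum_congr rfl fun j _ => by ring
      refine ⟨N • a + avg T (b k) r, fun s => ?_, fun s hs => ?_⟩
      · rw [hlin, hlin, ha1, ev_avg_stab hG (b k) r (hδ k (hJ (Finset.mem_insert_self _ _)))]
      · rw [hlin]
        intro h0
        have hlt : |ev T (avg T (b k) r) s| < N := by
          rw [hN, Int.lt_add_one_iff]
          exact Finset.single_le_sum (f := fun s => |ev T (avg T (b k) r) s|) (fun x _ => abs_nonneg _)
            (Finset.mem_univ s)
        have hv : ev T (avg T (b k) r) s = 0 := by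
          refine Int.eq_zero_of_abs_lt_dvd (m := N) ⟨-ev T a s, by linear_combination h0⟩ hlt
        rw [hv, add_zero] at h0
        have ha0 : ev T a s = 0 := by
          rcases mul_eq_zero.1 h0 with h | h
          · have := abs_nonneg (ev T (avg T (b k) r) s); omega
          · exact h
        obtain ⟨k', hk', hne⟩ := hs
        rcases Finset.mem_insert.1 hk' with rfl | hk'
        · exact hne hv
        · exact ha2 s ⟨k', hk', hne⟩ ha0
  obtain ⟨a, ha1, ha2⟩ := key I subset_rfl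
  have ha : ∀ s, ev T a s ≠ 0 := by
    intro s
    obtain ⟨k, hk, hks⟩ := hreg s
    refine ha2 s ⟨k, hk, fun e => ?_⟩
    have h := ev_avg_dvd hG (b k) r s
    rw [e, zero_sub, dvd_neg] at h
    rcases Int.Prime.dvd_mul' (Fact.out : r.Prime) h with h1 | h1
    · exact hW ((Int.natCast_dvd_natCast.1 h1).trans (Subgroup.card_dvd_of_le (stab_le _ r)))
    · exact hks h1
  obtain ⟨u, hu, hpos⟩ := exists_chamber hG ha
  have h1 := hfix (u⁻¹ * δ * u) (mul_mem (mul_mem (inv_mem hu) hδw) hu) fun s hs => by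
    refine (T.S.pos_or_neg _).resolve_right fun hn => ?_
    have h2 := hpos _ hn
    rw [ev_neg hG _ hu] at h2
    simp only [Equiv.Perm.mul_apply, Equiv.Perm.coe_inv, Equiv.apply_symm_apply] at h2
    rw [ha1] at h2
    have := hpos s hs
    omega
  rw [mul_assoc, inv_mul_eq_one] at h1
  exact mul_right_cancel ((one_mul u).trans h1).symm

include hU in
/-- The eigenvector of a torus element is fixed by the Weyl elements fixing the element. -/
theorem mem_stab {r : ℕ} [Fact r.Prime] {ζ : Fˣ} (hζ : orderOf ζ = r) {b : Fin T.tab.l → ℤ}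
    {t : ↥(rr (F := F) T hU).H} (ht : psi T hU t = fun j => ζ ^ b j) {w : List (Fin T.tab.l)}
    (hw : (rr T hU).nw w * t.1 * ((rr T hU).nw w)⁻¹ = t.1) : pw T w.reverse ∈ stab T b r := by
  refine ⟨prod_mem_weyl T _, fun u => ?_⟩
  have h1 := psi_conj T hU w t
  rw [show (⟨(rr T hU).nw w * t.1 * ((rr T hU).nw w)⁻¹, nw_conj_mem_H _ w t.2⟩ : (rr (F := F) T hU).H) = t
    from Subtype.ext hw, ht] at h1
  rw [ev_weyl' hU.toCommGood.toGood (γ := pw T w.reverse) (prod_mem_weyl T _),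
    show ev T b u = cf T u ⬝ᵥ b from rfl, ← dotProduct_sub]
  refine Finset.dvd_sum fun j _ => dvd_mul_of_dvd_right ?_ _
  have h3 := congrFun h1 j
  rw [mpow_zeta] at h3
  rw [Pi.sub_apply, ← hζ, orderOf_dvd_iff_zpow_eq_one, _root_.zpow_sub, ← h3, mul_inv_cancel]

include hU in
theorem twist_eq {F₀ : Type u} [Field F₀] (σ : F →+* F) (i : F₀ →+* F) {q : ℕ}
    (hσ : ∀ b, σ b = b ^ q) (hi : ∀ b, σ b = b ↔ ∃ y, i y = b) (g : ↥(D.group F))
    {y : ↥(D.group F₀)} (hy : g * mapGroup i y * g⁻¹ ∈ (rr T hU).H) :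
    mapGroup σ g * g⁻¹ * (g * mapGroup i y * g⁻¹) * (mapGroup σ g * g⁻¹)⁻¹ =
      (g * mapGroup i y * g⁻¹) ^ q := by
  have hτι : mapGroup σ (mapGroup i y) = mapGroup i y :=
    Model.mat_inj (Matrix.ext fun a b => (hi _).2 ⟨_, rfl⟩)
  rw [← mapGroup_H T hU σ hσ hy, map_mul, map_mul, map_inv, hτι]
  group

include hU hwit hlong hspan in
/-- Descent of a twisted torus element, given a regular family with trivial stabiliser. -/
theorem exists_descend {F₀ : Type u} [Field F₀] (σ : F →+* F) (i : F₀ →+* F) {q : ℕ}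
    (hσ : ∀ b, σ b = b ^ q) (hi : ∀ b, σ b = b ↔ ∃ y, i y = b)
    (hcard : Nat.card ↥(D.diagonalSubgroup F) = (Fintype.card F - 1) ^ D.rank)
    (g : ↥(D.group F)) {S : Set ↥(D.group F₀)} (hS : ∀ y ∈ S, g * mapGroup i y * g⁻¹ ∈ (rr T hU).H)
    (hreg : ∀ s, ∃ y ∈ S, chi T (g * mapGroup i y * g⁻¹) s ≠ 1)
    (hstab : ∀ w, (∀ y ∈ S, (rr T hU).nw w * (g * mapGroup i y * g⁻¹) * ((rr T hU).nw w)⁻¹ =
      g * mapGroup i y * g⁻¹) → ∀ s, T.S.actw w s = s)
    {v : List (Fin T.tab.l)}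
    (hv : ∀ t t' : ↥(D.group F), t ∈ (rr T hU).H → t' ∈ (rr T hU).H →
      mapGroup σ g * g⁻¹ * t * (mapGroup σ g * g⁻¹)⁻¹ = t' →
      (rr T hU).nw v * t * ((rr T hU).nw v)⁻¹ = t')
    {t : ↥(D.group F)} (ht : t ∈ (rr T hU).H)
    (htv : (rr T hU).nw v * t * ((rr T hU).nw v)⁻¹ = t ^ q) :
    ∃ y, g * mapGroup i y * g⁻¹ = t := by
  set R := rr (F := F) T hU
  set n := mapGroup σ g * g⁻¹ with hn
  set K := relsOfCommGood hU.toCommGood F
  have hc : ∀ e ∈ (fun y => g * mapGroup i y * g⁻¹) '' S, ((R.nw v)⁻¹ * n) * e = e * ((R.nw v)⁻¹ * n) := by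
    rintro _ ⟨y, hy, rfl⟩
    have h1 := twist_eq T hU σ i hσ hi g (hS y hy)
    have h2 := hv _ _ (hS y hy) (pow_mem (hS y hy) q) h1
    rw [← h1] at h2
    calc (R.nw v)⁻¹ * n * (g * mapGroup i y * g⁻¹)
        = (R.nw v)⁻¹ * (n * (g * mapGroup i y * g⁻¹) * n⁻¹) * n := by group
      _ = _ := by rw [← h2]; group
  have hct := commute_of_commute T hU hlong hspan hwit (g := (R.nw v)⁻¹ * n) ht
    (S := (fun y => g * mapGroup i y * g⁻¹) '' S) (by rintro _ ⟨y, hy, rfl⟩; exact hS y hy)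
    (fun s hs => by
      obtain ⟨y, hy, hne⟩ := hreg s
      exact absurd (hs _ ⟨y, hy, rfl⟩) hne)
    (fun w hw => by
      have h1 := (T.shapeR K).nw_mem_H (fun r t => T.x_ne _ r t)
        (hstab w fun y hy => hw _ ⟨y, hy, rfl⟩)
      rw [H_commute T hU h1 ht, mul_inv_cancel_right])
    hc
  have hnt : n * t * n⁻¹ = t ^ q := by
    rw [← htv]
    calc n * t * n⁻¹ = R.nw v * ((R.nw v)⁻¹ * n * t) * n⁻¹ := by group
      _ = _ := by rw [hct]; group
  obtain ⟨y, hy⟩ := range_mapGroup_of_fixed T hU hwit hlong hspan hcard σ i hi (g := g⁻¹ * t * g) (by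
    rw [map_mul, map_mul, map_inv, mapGroup_H T hU σ hσ ht, ← hnt, hn]
    group)
  exact ⟨y, by rw [hy]; group⟩

end Cfsg.Agent.CG26.F4Graph
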