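import Cfsg.Agent.CG26.F4Graph.Tori
import Cfsg.Agent.CG26.ChevInv.Root
import Cfsg.Agent.Lib.ChevCore.Parabolic
import Cfsg.Agent.Lib.ChevCore.Triangular
import Cfsg.Agent.Lib.LinearGroup.Card

/-!
The commuting subgroups `SL₂(q)` and `X_J`, `J` the first three nodes, of F4(q) for even `q`.
-/

set_option autoImplicit false
set_option maxRecDepth 20000

namespace Cfsg.Agent.CG26.F4Graph

open Cfsg.Lie Cfsg.Agent.ChevGroup Cfsg.Agent.ChevCore Cfsg.Agent.ChevTori Matrix
open Cfsg.Agent.ChevGroup.TypeF4 (model wit_ok longest_ok pos_span)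
open Cfsg.Agent.CG26.ChevInv (phi phi_U phi_L phi_ph)
open Cfsg.Agent.CG26.G2Inv (hom_ext_sl)

local notation "SL(" n ", " R ")" => Matrix.SpecialLinearGroup (Fin n) R

universe u

/-- The roots on the first three nodes. -/
def J3 : Set ℕ := {0, 1, 2}

/-- The coefficient certificate for the commutators of the short root `47` and of its negative. -/
noncomputable def evenB (r s : ℕ) : Bool :=
  !decide (s = r) && !decide (s = chevF4.neg r) &&
    kall (commW (std chevF4) r s) fun c => decide (c.2.1 % 2 = 0)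

/-- All roots on the first three nodes. -/
noncomputable def evenAll : Bool :=
  kallUpTo chevF4.nroots fun s => !decide (coef chevF4 s 3 = 0) || (evenB 47 s && evenB 0 s)

theorem even_ok : evenAll = true := by decide +kernel

theorem alpha_facts : 47 < chevF4.nroots ∧ chevF4.neg 47 = 0 ∧ 1 ≤ ht chevF4 47 ∧ ht chevF4 0 ≤ -1 := by
  decide +kernel

theorem chkSupp4 : chkSupp chevF4 = true := chkSupp_of_mem (by simp)

theorem coef3_of_subJ {s : ℕ} (h : s ∈ subJ chevF4 J3) : coef chevF4 s 3 = 0 :=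
  h 3 (by decide) (by simp [J3])

variable {F : Type u} [Field F]

theorem commute_alpha (h2 : (2 : F) = 0) {r s : ℕ} (hr : r = 47 ∨ r = 0) (hs : s < chevF4.nroots)
    (hsJ : s ∈ subJ chevF4 J3) (t u : F) : Commute (xg chevF4 F r t) (xg chevF4 F s u) := by
  have h := (kallUpTo_iff _ _).1 even_ok s hs
  rw [coef3_of_subJ hsJ] at h
  have hb : evenB r s = true := by
    simp only [decide_true, Bool.not_true, Bool.false_or, Bool.and_eq_true] at h
    rcases hr with rfl | rfl
    · exact h.1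
    · exact h.2
  have hrn : r < chevF4.nroots := by
    rcases hr with rfl | rfl
    · exact alpha_facts.1
    · exact Nat.zero_lt_of_lt alpha_facts.1
  simp only [evenB, Bool.and_eq_true, Bool.not_eq_true', decide_eq_false_iff_not] at hb
  have hw : wordG chevF4 F (chevF4.commWord F r s t u) = 1 := by
    refine List.prod_eq_one fun g hg => ?_
    obtain ⟨p, hp, rfl⟩ := List.mem_map.1 hg
    obtain ⟨c, hc, rfl⟩ := List.mem_map.1 hp
    have hev := (kall_iff _ _).1 hb.2 c hc
    rw [decide_eq_true_eq] at hev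
    obtain ⟨m, hm⟩ := Int.dvd_of_emod_eq_zero hev
    show xg chevF4 F c.1 ((c.2.1 : F) * _ * _) = 1
    rw [hm, Int.cast_mul, show ((2 : ℤ) : F) = 0 by exact_mod_cast h2, zero_mul, zero_mul, zero_mul,
      hG4.xg_zero]
  have h := hC4.xg_comm hrn hs hb.1.1 hb.1.2 t u
  rw [hw, mul_one] at h
  exact h.symm

/-- The embedded `SL₂`. -/
noncomputable def sl (F : Type u) [Field F] : SL(2, F) →* ↥(chevF4.group F) :=
  phi model uGoodF4 ⟨47, by decide⟩

theorem neg_alpha : model.S.neg ⟨47, by decide⟩ = ⟨0, by decide⟩ := by decide +kernel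

theorem val_sl_U (t : F) : ((sl F (slU t) : ↥(chevF4.group F)) : GL chevF4.Idx F) = xg chevF4 F 47 t := by
  rw [sl, phi_U, val_x]

theorem val_sl_L (t : F) : ((sl F (slL t) : ↥(chevF4.group F)) : GL chevF4.Idx F) = xg chevF4 F 0 t := by
  rw [sl, phi_L, val_x, neg_alpha]

/-- `SL₂` is injectively embedded. -/
theorem sl_injective (h2 : (2 : F) = 0) : Function.Injective (sl F) := by
  rw [injective_iff_map_eq_one]
  intro g hg
  have hneg : ∀ a : F, -a = a := fun a => by linear_combination (-a) * h2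
  by_cases hc : (g : Matrix (Fin 2) (Fin 2) F) 1 0 = 0
  · set a := (g : Matrix (Fin 2) (Fin 2) F) 0 0 with ha
    set b := (g : Matrix (Fin 2) (Fin 2) F) 0 1 with hb
    set d := (g : Matrix (Fin 2) (Fin 2) F) 1 1 with hd
    have hdet : a * d = 1 := by
      have := g.det_coe
      rw [Matrix.det_fin_two, hc, mul_zero, sub_zero] at this
      exact this
    have hgm : (g : Matrix (Fin 2) (Fin 2) F) = !![a, b; 0, d] := by
      ext i j; fin_cases i <;> fin_cases j <;> simp [ha, hb, hd, hc]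
    have hconj : g * slU 1 = slU (a * a) * g := Subtype.ext (by
      show (g : Matrix (Fin 2) (Fin 2) F) * !![1, 1; 0, 1] = !![1, a * a; 0, 1] * (g : Matrix (Fin 2) (Fin 2) F)
      rw [hgm]
      ext i j; fin_cases i <;> fin_cases j <;> simp [Matrix.mul_apply, Fin.sum_univ_two]
      linear_combination (-a) * hdet)
    have h1 := congrArg (sl F) hconj
    rw [map_mul, map_mul, hg, one_mul, mul_one] at h1
    rw [sl, phi_U, phi_U] at h1
    have haa : a * a = 1 := (x_inj model uGoodF4 _ h1).symm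
    have ha1 : a = 1 := by
      have : (a - 1) * (a - 1) = 0 := by linear_combination haa + (1 - a) * h2
      exact sub_eq_zero.1 (mul_self_eq_zero.1 this)
    have hd1 : d = 1 := by rw [ha1, one_mul] at hdet; exact hdet
    have hgU : g = slU b := Subtype.ext (by rw [coe_slU, hgm, ha1, hd1])
    rw [hgU, sl, phi_U] at hg
    have hb0 : b = 0 := x_inj model uGoodF4 _ (hg.trans ((rr model uGoodF4).x_zero _).symm)
    rw [hgU, hb0]
    exact Subtype.ext (by rw [coe_slU]; ext i j; fin_cases i <;> fin_cases j <;> simp)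
  · exfalso
    set c := (g : Matrix (Fin 2) (Fin 2) F) 1 0 with hcdef
    set t := -(g : Matrix (Fin 2) (Fin 2) F) 0 0 / c with ht
    set g' := slU t * g * (slU t)⁻¹ with hg'
    have hg'1 : sl F g' = 1 := by rw [hg', map_mul, map_mul, hg, mul_one, map_inv, mul_inv_cancel]
    have hinv : ((slU t)⁻¹ : SL(2, F)) = slU (-t) := by
      refine inv_eq_of_mul_eq_one_right (Subtype.ext ?_)
      show !![1, t; 0, 1] * !![1, -t; 0, 1] = (1 : Matrix (Fin 2) (Fin 2) F)
      ext i j; fin_cases i <;> fin_cases j <;> simp [Matrix.mul_apply, Fin.sum_univ_two]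
    have h00 : (g' : Matrix (Fin 2) (Fin 2) F) 0 0 = 0 := by
      rw [hg', hinv]
      show (!![1, t; 0, 1] * (g : Matrix (Fin 2) (Fin 2) F) * !![1, -t; 0, 1]) _ _ = _
      simp [Matrix.mul_apply, Matrix.vecMul, dotProduct, Fin.sum_univ_two, ← hcdef]
      rw [ht]; field_simp; ring
    have h10 : (g' : Matrix (Fin 2) (Fin 2) F) 1 0 = c := by
      rw [hg', hinv]
      show (!![1, t; 0, 1] * (g : Matrix (Fin 2) (Fin 2) F) * !![1, -t; 0, 1]) _ _ = _
      simp [Matrix.mul_apply, Matrix.vecMul, dotProduct, Fin.sum_univ_two, ← hcdef]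
    clear_value g'
    have hdet := g'.det_coe
    rw [Matrix.det_fin_two, h00, h10, zero_mul, zero_sub] at hdet
    have hconj : g' * slU 1 = slL (-(c * c)) * g' := Subtype.ext (by
      show (g' : Matrix (Fin 2) (Fin 2) F) * !![1, 1; 0, 1] = !![1, 0; -(c * c), 1] * (g' : Matrix (Fin 2) (Fin 2) F)
      ext i j; fin_cases i <;> fin_cases j <;> simp [Matrix.mul_apply, Fin.sum_univ_two, h00, h10]
      linear_combination (-c) * hdet)
    have h1 := congrArg (sl F) hconj
    rw [map_mul, map_mul, hg'1, one_mul, mul_one] at h1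
    have h3 := congrArg (fun x : ↥(chevF4.group F) => (x : GL chevF4.Idx F)) h1
    simp only [val_sl_U, val_sl_L] at h3
    have h4 : xg chevF4 F 47 1 ∈ chevF4.borelSubgroup F ⊓ chevF4.negUnipotent F := by
      refine ⟨hG4.xg_mem_borel alpha_facts.1 alpha_facts.2.2.1 _, ?_⟩
      rw [h3, hG4.negUnipotent_eq]
      exact xg_mem_XS (Nat.zero_lt_of_lt alpha_facts.1) alpha_facts.2.2.2 _
    rw [hG4.borel_inf_neg, Subgroup.mem_bot] at h4
    have h5 : (rr (F := F) model uGoodF4).x ⟨47, by decide⟩ 1 = 1 := Subtype.ext (by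
      rw [val_x]; exact h4)
    exact one_ne_zero (model.x_ne _ _ _ h5)

variable (F)

/-- The subgroup of the roots on the first three nodes. -/
noncomputable def LJ : Subgroup ↥(chevF4.group F) := (XS chevF4 F (subJ chevF4 J3)).subgroupOf (chevF4.group F)

variable {F}

theorem commute_sl (h2 : (2 : F) = 0) {y : ↥(chevF4.group F)} (hy : y ∈ LJ F) (g : SL(2, F)) :
    Commute (sl F g) y := by
  have hU : ∀ t, Commute (sl F (slU t)) y ∧ Commute (sl F (slL t)) y := by
    intro t
    have key : ∀ r, r = 47 ∨ r = 0 → ∀ z ∈ XS chevF4 F (subJ chevF4 J3), Commute (xg chevF4 F r t) z := by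
      intro r hr z hz
      refine Subgroup.mem_centralizer_singleton_iff.1 ?_ |>.symm
      refine (XS_le fun s u hs hsJ => ?_) hz
      exact Subgroup.mem_centralizer_singleton_iff.2 (commute_alpha h2 hr hs hsJ t u).symm.eq
    constructor <;> refine Subtype.ext ?_ <;> rw [Subgroup.coe_mul, Subgroup.coe_mul]
    · rw [val_sl_U]; exact (key 47 (Or.inl rfl) _ hy).eq
    · rw [val_sl_L]; exact (key 0 (Or.inr rfl) _ hy).eq
  have h := hom_ext_sl (f := (MulAut.conj y).toMonoidHom.comp (sl F)) (g := sl F)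
    (fun t => by
      show y * sl F (slU t) * y⁻¹ = _
      rw [← (hU t).1.eq, mul_inv_cancel_right])
    (fun t => by
      show y * sl F (slL t) * y⁻¹ = _
      rw [← (hU t).2.eq, mul_inv_cancel_right]) g
  replace h : y * sl F g * y⁻¹ = sl F g := h
  exact (mul_inv_eq_iff_eq_mul.1 h).symm

variable [Fintype F]

/-- Elements of prime order in `SL₂`. -/
theorem exists_sl_of_prime {q : ℕ} (hF : Fintype.card F = q) (h2 : (2 : F) = 0) {s : ℕ} [Fact s.Prime]
    (hs : s ∣ q * (q ^ 2 - 1)) : ∃ g : SL(2, F), orderOf (sl F g) = s := by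
  obtain ⟨g, hg⟩ := exists_prime_orderOf_dvd_card' (G := SL(2, F)) s (by
    rw [LinearGroup.card_SL_two, Nat.card_eq_fintype_card, hF]; exact hs)
  exact ⟨g, by rw [orderOf_injective _ (sl_injective h2), hg]⟩

theorem mem_LJ_x {s : Fin model.tab.n} (hs : coef chevF4 s.val 3 = 0) (t : F) :
    (rr (F := F) model uGoodF4).x s t ∈ LJ F := by
  rw [LJ, Subgroup.mem_subgroupOf, val_x]
  refine xg_mem_XS (model.lt s) (fun i hi hiJ => ?_) t
  have : i = 3 := by
    simp only [J3, Set.mem_insert_iff, Set.mem_singleton_iff] at hiJ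
    have hr : chevF4.rank = 4 := by decide
    omega
  subst this
  exact hs

omit [Fintype F] in
/-- An involution in `X_J`. -/
theorem exists_LJ_two (h2 : (2 : F) = 0) : ∃ y ∈ LJ F, orderOf y = 2 := by
  set a : Fin model.tab.n := model.S.simple ⟨0, by decide⟩ with ha
  refine ⟨(rr (F := F) model uGoodF4).x a 1, ?_, orderOf_eq_prime ?_ ?_⟩
  · rw [LJ, Subgroup.mem_subgroupOf, val_x]
    refine xg_mem_XS (model.lt a) ?_ 1
    rw [ha, model.simple_eq]
    exact hG4.simple_mem_subJ (by decide) (by simp [J3])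
  · rw [pow_two, ← (rr (F := F) model uGoodF4).x_add, one_add_one_eq_two, h2, (rr (F := F) model uGoodF4).x_zero]
  · exact fun h => one_ne_zero (model.x_ne _ _ _ h)

/-- `x ^ k` stays in the coset of the normal subgroup. -/
theorem prime_dvd_sup {G : Type*} [Group G] {N A : Subgroup G} [Finite N] [Finite A]
    (hA : A ≤ Subgroup.normalizer (N : Set G)) {x : G} (hx : x ∈ N ⊔ A) {r : ℕ} (hr : r.Prime)
    (ho : orderOf x = r) (hrA : ¬ r ∣ Nat.card A) : r ∣ Nat.card N := by
  rw [sup_comm, ← SetLike.mem_coe, Subgroup.coe_mul_of_left_le_normalizer_right A N hA] at hx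
  obtain ⟨a, ha, n, hn, rfl⟩ := hx
  have key : ∀ k : ℕ, ∃ n' ∈ N, (a * n) ^ k = a ^ k * n' := by
    intro k
    induction k with
    | zero => exact ⟨1, one_mem _, by simp⟩
    | succ k ih =>
      obtain ⟨n', hn', e⟩ := ih
      refine ⟨a⁻¹ * n' * a * n, mul_mem ?_ hn, by rw [pow_succ, pow_succ, e]; group⟩
      have h := (Subgroup.mem_normalizer_iff.1 (hA (inv_mem ha)) n').1 hn'
      simpa using h
  obtain ⟨n', hn', e⟩ := key (Nat.card A)
  have hA1 : a ^ Nat.card A = 1 := by
    have h := pow_card_eq_one' (x := (⟨a, ha⟩ : A))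
    exact congrArg Subtype.val h
  have h1 : (a * n) ^ (Nat.card A * Nat.card N) = 1 := by
    rw [pow_mul, e, hA1, one_mul]
    exact congrArg Subtype.val (pow_card_eq_one' (x := (⟨n', hn'⟩ : N)))
  exact (hr.dvd_mul.1 (ho ▸ orderOf_dvd_of_pow_eq_one h1)).resolve_left hrA

theorem val_n (i : Fin model.tab.l) :
    (((rr (F := F) model uGoodF4).n i : ↥(chevF4.group F)) : GL chevF4.Idx F) =
      ng chevF4 F (chevF4.simple i.val) 1 := by
  simp only [RootRel.n, RootRel.nr, nOf, ng, Subgroup.coe_mul, val_x, model.simple_eq, model.neg_eq]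

/-- The parabolic subgroup of the first three nodes has an element of order `r`. -/
theorem exists_parabolic_elem {q : ℕ} (hF : Fintype.card F = q) {r : ℕ} [Fact r.Prime]
    (hr : r ∣ (q ^ 2 - 1) * (q ^ 4 - 1) * (q ^ 6 - 1)) :
    ∃ x ∈ chevF4.parabolicSubgroup F J3, orderOf x = r := by
  have hrp : r.Prime := Fact.out
  have K := relsOfCommGood hC4 F
  have hq1 : 1 ≤ q := hF ▸ Fintype.card_pos
  have hq2 : 2 ≤ q := hF ▸ Fintype.one_lt_card
  have h1 := model.card_step (relsOfCommGood hC4 F) TypeF4.data1 TypeF4.span1 TypeF4.valid1 TypeF4.step1 TypeF4.masks1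
  rw [sum_fin_lengths _ _ [0, 1, 2, 3, 3, 4, 5, 6] (by decide +kernel), Nat.card_eq_fintype_card (α := F), hF] at h1
  have h2 := model.card_step (relsOfCommGood hC4 F) TypeF4.data2 TypeF4.span2 TypeF4.valid2 TypeF4.step2 TypeF4.masks2
  rw [sum_fin_lengths _ _ [0, 1, 2] (by decide +kernel), Nat.card_eq_fintype_card (α := F), hF] at h2
  have h3 := model.card_step (relsOfCommGood hC4 F) TypeF4.data3 TypeF4.span3 TypeF4.valid3 TypeF4.step3 TypeF4.masks3
  rw [sum_fin_lengths _ _ [0, 1] (by decide +kernel), Nat.card_eq_fintype_card (α := F), hF] at h3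
  rw [show (model.tab.step TypeF4.data1).J = (model.tab.step TypeF4.data2).K from rfl, h2,
    show (model.tab.step TypeF4.data2).J = (model.tab.step TypeF4.data3).K from rfl, h3,
    show (model.tab.step TypeF4.data3).J = [] from rfl, model.card_par_nil (relsOfCommGood hC4 F),
    ChevFixed.TypeF4.card_torus (torusFacts_of_good hG4) (relsOfCommGood hC4 F), hF] at h1
  set P := ((rr (F := F) model uGoodF4).par (model.tab.step TypeF4.data1).K) with hP
  have hcard : r ∣ Nat.card P := by
    rw [hP, h1]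
    refine hr.trans (Dvd.intro_left (Nat.card ↥(chevF4.posUnipotent F) * (q - 1)) ?_)
    have h24 := hq1
    simp only [List.map_cons, List.map_nil, List.sum_cons, List.sum_nil]
    zify [Nat.one_le_pow _ _ hq1, hq1]
    ring
  obtain ⟨x, hx⟩ := exists_prime_orderOf_dvd_card' r hcard
  refine ⟨((x : ↥(chevF4.group F)) : GL chevF4.Idx F), ?_, by
    rw [Subgroup.orderOf_coe, Subgroup.orderOf_coe, hx]⟩
  have hle : P ≤ (chevF4.parabolicSubgroup F J3).subgroupOf (chevF4.group F) := by
    have hB : chevF4.borelSubgroup F ≤ chevF4.parabolicSubgroup F J3 := by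
      rw [hG4.parabolic_gen]; exact le_sup_left
    refine sup_le (sup_le ?_ ?_) ((Subgroup.closure_le _).2 ?_)
    · refine (Subgroup.closure_le _).2 ?_
      rintro g ⟨s, t, hs, rfl⟩
      rw [SetLike.mem_coe, Subgroup.mem_subgroupOf, val_x]
      exact hB (hG4.xg_mem_borel (model.lt s) ((hG4.isPosRoot_iff (model.lt s)).1 ((model.pos_val s).1 hs)) t)
    · intro g hg
      rw [Subgroup.mem_subgroupOf]
      refine hB (Subgroup.mem_sup_right ?_)
      rw [← model.H_map (relsOfCommGood hC4 F)]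
      exact ⟨g, hg, rfl⟩
    · rintro g ⟨i, hi, rfl⟩
      rw [SetLike.mem_coe, Subgroup.mem_subgroupOf, val_n, hG4.parabolic_gen]
      refine Subgroup.mem_sup_right (Subgroup.subset_closure ⟨i.val, ?_, model.lt_l i, rfl⟩)
      have hi' : i ∈ (([0, 1, 2] : List (Fin 4)) : List (Fin model.tab.l)) := hi
      simp only [J3, Set.mem_insert_iff, Set.mem_singleton_iff]
      exact (by decide : ∀ j : Fin 4, j ∈ ([0, 1, 2] : List (Fin 4)) → j.val = 0 ∨ j.val = 1 ∨ j.val = 2) i hi'
  exact hle x.2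

/-- Elements of prime order in `X_J`. -/
theorem exists_LJ {q : ℕ} (hF : Fintype.card F = q) {r : ℕ} [Fact r.Prime] (hr2 : r ≠ 2) (h2 : (2 : F) = 0)
    (hr1 : ¬ r ∣ q - 1) (hr : r ∣ (q ^ 2 - 1) * (q ^ 4 - 1) * (q ^ 6 - 1)) :
    ∃ y ∈ LJ F, orderOf y = r := by
  have hrp : r.Prime := Fact.out
  obtain ⟨x, hx, hxo⟩ := exists_parabolic_elem hF hr
  obtain ⟨p, hp⟩ : ∃ p, CharP F p := CharP.exists F
  haveI := hp
  have hp2 : p = 2 := by
    haveI : CharP F 2 := CharTwo.of_one_ne_zero_of_two_eq_zero one_ne_zero h2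
    exact CharP.eq F hp ‹_›
  subst hp2
  have hU : ¬ r ∣ Nat.card ↥(chevF4.unipotentRadical F J3) := by
    intro h
    have hle : chevF4.unipotentRadical F J3 ≤ chevF4.posUnipotent F := by
      rw [hG4.unipotentRadical_eq chkSupp4, hG4.posUnipotent_eq]
      exact XS_mono fun s hs => hs.1
    have h' := h.trans (Subgroup.card_dvd_of_le hle)
    rw [model.card_posUnipotent (relsOfCommGood hC4 F) longest_ok pos_span, Nat.card_eq_fintype_card] at h'
    obtain ⟨k, -, hk⟩ := FiniteField.card F 2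
    rw [hk, ← pow_mul] at h'
    exact hr2 ((Nat.prime_dvd_prime_iff_eq hrp Nat.prime_two).1 (hrp.dvd_of_dvd_pow h'))
  have hL : r ∣ Nat.card ↥(chevF4.leviSubgroup F J3) := by
    by_contra hno
    refine hU (prime_dvd_sup (le_trans ?_ (hC4.parabolic_le_normalizer chkSupp4 J3)) (x := x) ?_ hrp hxo hno)
    · rw [← hG4.radical_sup_levi chkSupp4]; exact le_sup_right
    · rw [hG4.radical_sup_levi chkSupp4]; exact hx
  obtain ⟨y, hy⟩ := exists_prime_orderOf_dvd_card' r hL
  have hX : r ∣ Nat.card ↥(XS chevF4 F (subJ chevF4 J3)) := by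
    refine prime_dvd_sup (hG4.H_le_normalizer_XS _) (x := (y : GL chevF4.Idx F)) ?_ hrp
      (by rw [Subgroup.orderOf_coe, hy]) ?_
    · rw [sup_comm, ← hG4.leviSubgroup_eq chkSupp4]; exact y.2
    · rw [ChevFixed.TypeF4.card_torus (torusFacts_of_good hG4) (relsOfCommGood hC4 F), hF]
      exact fun h => hr1 (hrp.dvd_of_dvd_pow h)
  obtain ⟨z, hz⟩ := exists_prime_orderOf_dvd_card' r hX
  have hzG : (z : GL chevF4.Idx F) ∈ chevF4.group F := by
    refine (XS_le fun s t hs _ => ?_) z.2
    exact hG4.xg_mem_group s t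
  refine ⟨⟨z, hzG⟩, z.2, ?_⟩
  rw [← Subgroup.orderOf_coe, Subgroup.coe_mk, Subgroup.orderOf_coe, hz]

end Cfsg.Agent.CG26.F4Graph
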