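import Cfsg.Agent.CG26.F4Graph.SameEig
import Cfsg.Agent.CG26.F4Graph.Small

/-!
The adjacency of two primes in the prime graph of F4(q), `q` even.
-/

set_option autoImplicit false
set_option maxRecDepth 20000

namespace Cfsg.Agent.CG26.F4Graph

open Cfsg.Lie Cfsg.Agent.ChevGroup Cfsg.Agent.ChevCore Cfsg.Agent.ChevTori
open Cfsg.Agent.ChevGroup.TypeF4 (model wit_ok longest_ok pos_span)

universe u

variable {F : Type u} [Field F] [Fintype F] {q : ℕ}

/-- The possible orders of `q` modulo a prime dividing the order. -/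
theorem order_cases (hF : Fintype.card F = q) {n : ℕ} (hq : q = 2 ^ n) {r : ℕ} [Fact r.Prime] (hr2 : r ≠ 2)
    (hr : r ∣ Nat.card ↥(chevF4.group F)) : orderOf (q : ZMod r) = 1 ∨ orderOf (q : ZMod r) = 2 ∨
      orderOf (q : ZMod r) = 3 ∨ orderOf (q : ZMod r) = 4 ∨ orderOf (q : ZMod r) = 6 ∨
      orderOf (q : ZMod r) = 8 ∨ orderOf (q : ZMod r) = 12 := by
  have hrp : r.Prime := Fact.out
  have hq1 : 1 ≤ q := hF ▸ Fintype.card_pos
  rw [TypeF4.card_group (torusFacts_of_good hG4) (relsOfCommGood hC4 F) hF] at hr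
  have hnq : ¬ r ∣ q := fun h => hr2 ((Nat.prime_dvd_prime_iff_eq hrp Nat.prime_two).1
    (hrp.dvd_of_dvd_pow (hq ▸ h)))
  have hd : ∀ d, r ∣ q ^ d - 1 → orderOf (q : ZMod r) ∣ d := fun d h => orderOf_dvd_of_pow_eq_one (by
    rw [← ZMod.natCast_eq_zero_iff, Nat.cast_sub (Nat.one_le_pow _ _ hq1), Nat.cast_pow, Nat.cast_one,
      sub_eq_zero] at h
    exact h)
  have key : ∀ d ∈ ([2, 6, 8, 12] : List ℕ), ∀ e, e ∣ d → e = 1 ∨ e = 2 ∨ e = 3 ∨ e = 4 ∨ e = 6 ∨ e = 8 ∨ e = 12 := by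
    intro d hd e he
    have h0 : d ≠ 0 := by rintro rfl; simp at hd
    have := Nat.le_of_dvd (Nat.pos_of_ne_zero h0) he
    simp only [List.mem_cons, List.not_mem_nil, or_false] at hd
    rcases hd with rfl | rfl | rfl | rfl <;> interval_cases e <;> simp_all
  rcases hrp.dvd_mul.1 hr with h | h
  rcases hrp.dvd_mul.1 h with h | h
  rcases hrp.dvd_mul.1 h with h | h
  rcases hrp.dvd_mul.1 h with h | h
  · exact absurd (hrp.dvd_of_dvd_pow h) hnq
  · exact key 2 (by simp) _ (hd 2 h)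
  · exact key 6 (by simp) _ (hd 6 h)
  · exact key 8 (by simp) _ (hd 8 h)
  · exact key 12 (by simp) _ (hd 12 h)

theorem two_eq_zero (hF : Fintype.card F = q) {n : ℕ} (hn : 1 ≤ n) (hq : q = 2 ^ n) : (2 : F) = 0 := by
  have h := Nat.cast_card_eq_zero F
  rw [hF, hq, Nat.cast_pow, Nat.cast_ofNat] at h
  exact eq_zero_of_pow_eq_zero h

theorem order_mul {r s : ℕ} (hr : r.Prime) (hs : s.Prime) (hrs : r ≠ s) {x y : ↥(chevF4.group F)}
    (hx : orderOf x = r) (hy : orderOf y = s) (hc : Commute x y) :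
    ∃ z : ↥(chevF4.group F), orderOf z = r * s :=
  ⟨x * y, by rw [hc.orderOf_mul_eq_mul_orderOf_of_coprime (by rw [hx, hy]; exact (Nat.coprime_primes hr hs).2 hrs),
    hx, hy]⟩

/-- A prime dividing `|SL₂(q)|` is adjacent to one dividing the order of the commuting subgroup. -/
theorem adj_sl (hF : Fintype.card F = q) (h2 : (2 : F) = 0) {r s : ℕ} [Fact r.Prime] [Fact s.Prime] (hrs : r ≠ s)
    (hs : s ∣ q * (q ^ 2 - 1))
    (hr : r = 2 ∨ (r ≠ 2 ∧ orderOf (q : ZMod r) ∈ ([2, 3, 4, 6] : List ℕ))) :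
    ∃ z : ↥(chevF4.group F), orderOf z = r * s := by
  have hq1 : 1 ≤ q := hF ▸ Fintype.card_pos
  obtain ⟨y, hy, hyo⟩ : ∃ y ∈ LJ F, orderOf y = r := by
    rcases hr with rfl | ⟨hr2, he⟩
    · exact exists_LJ_two h2
    · refine exists_LJ hF hr2 h2 (fun h => ?_) ?_
      · have h1 : orderOf (q : ZMod r) ∣ 1 := orderOf_dvd_of_pow_eq_one (by
          rw [pow_one]
          rw [← ZMod.natCast_eq_zero_iff, Nat.cast_sub hq1, Nat.cast_one, sub_eq_zero] at h
          exact h)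
        rw [Nat.dvd_one] at h1
        simp [h1] at he
      · simp only [List.mem_cons, List.not_mem_nil, or_false] at he
        rcases he with h | h | h | h
        · exact dvd_mul_of_dvd_left (dvd_mul_of_dvd_left (dvd_pow_sub_one h hq1 dvd_rfl) _) _
        · exact dvd_mul_of_dvd_right (dvd_pow_sub_one h hq1 (by norm_num)) _
        · exact dvd_mul_of_dvd_left (dvd_mul_of_dvd_right (dvd_pow_sub_one h hq1 dvd_rfl) _) _
        · exact dvd_mul_of_dvd_right (dvd_pow_sub_one h hq1 dvd_rfl) _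
  obtain ⟨g, hg⟩ := exists_sl_of_prime hF h2 hs
  exact order_mul Fact.out Fact.out hrs hyo hg (commute_sl h2 hy g).symm

theorem dvd_sl (hF : Fintype.card F = q) {n : ℕ} (hn : 1 ≤ n) (hq : q = 2 ^ n) {s : ℕ} [Fact s.Prime]
    (hs : s = 2 ∨ orderOf (q : ZMod s) = 1 ∨ orderOf (q : ZMod s) = 2) : s ∣ q * (q ^ 2 - 1) := by
  have hq1 : 1 ≤ q := hF ▸ Fintype.card_pos
  rcases hs with rfl | h | h
  · exact dvd_mul_of_dvd_left (hq ▸ dvd_pow_self 2 (by omega)) _
  · exact dvd_mul_of_dvd_right (dvd_pow_sub_one h hq1 (one_dvd 2)) _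
  · exact dvd_mul_of_dvd_right (dvd_pow_sub_one h hq1 dvd_rfl) _

/-- Two primes dividing `q - 1` are adjacent. -/
theorem adj_torus (hF : Fintype.card F = q) {r s : ℕ} [Fact r.Prime] [Fact s.Prime] (hrs : r ≠ s)
    (hr : orderOf (q : ZMod r) = 1) (hs : orderOf (q : ZMod s) = 1) :
    ∃ z : ↥(chevF4.group F), orderOf z = r * s := by
  have hq1 : 1 ≤ q := hF ▸ Fintype.card_pos
  have hc : Nat.card ↥(rr (F := F) model uGoodF4).H = (q - 1) ^ 4 := by
    rw [← model.card_H_eq (relsOfCommGood hC4 F),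
      ChevFixed.TypeF4.card_torus (torusFacts_of_good hG4) (relsOfCommGood hC4 F), hF]
  have h1 : ∀ p : ℕ, orderOf (q : ZMod p) = 1 → p ∣ Nat.card ↥(rr (F := F) model uGoodF4).H := fun p hp => by
    rw [hc]
    exact dvd_pow (by simpa using dvd_pow_sub_one hp hq1 (dvd_refl 1)) (by norm_num)
  obtain ⟨x, hx⟩ := exists_prime_orderOf_dvd_card' r (h1 r hr)
  obtain ⟨y, hy⟩ := exists_prime_orderOf_dvd_card' s (h1 s hs)
  exact order_mul Fact.out Fact.out hrs (by rw [Subgroup.orderOf_coe, hx]) (by rw [Subgroup.orderOf_coe, hy])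
    (H_commute model uGoodF4 x.2 y.2)

/-- Components of an element of order `r s`. -/
theorem exists_parts {G : Type*} [Group G] {r s : ℕ} (hr : r.Prime) (hs : s.Prime) {z : G}
    (hz : orderOf z = r * s) : ∃ x y : G, orderOf x = r ∧ orderOf y = s ∧ x * y = y * x := by
  refine ⟨z ^ s, z ^ r, ?_, ?_, by rw [← pow_add, ← pow_add, add_comm]⟩
  · rw [orderOf_pow_of_dvd hs.ne_zero (hz ▸ dvd_mul_left s r), hz, Nat.mul_div_cancel _ hs.pos]
  · rw [orderOf_pow_of_dvd hr.ne_zero (hz ▸ dvd_mul_right r s), hz, Nat.mul_div_cancel_left _ hr.pos]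

theorem adj_symm {r s : ℕ} (h : ∃ z : ↥(chevF4.group F), orderOf z = r * s) :
    ∃ z : ↥(chevF4.group F), orderOf z = s * r := by
  rwa [mul_comm]

/-- The pairs of odd primes that are not adjacent, the larger order first. -/
def NonAdj (k l : ℕ) : Prop := k = 8 ∨ k = 12 ∨ (k = 6 ∧ (l = 3 ∨ l = 4)) ∨ (k = 4 ∧ l = 3)

theorem not_adj_big (hF : Fintype.card F = q) {n : ℕ} (hn : 1 ≤ n) (hq : q = 2 ^ n) {r s : ℕ} [Fact r.Prime]
    [Fact s.Prime] (he : orderOf (q : ZMod r) = 8 ∨ orderOf (q : ZMod r) = 12)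
    (hne : orderOf (q : ZMod s) ≠ orderOf (q : ZMod r)) :
    ¬ ∃ z : ↥(chevF4.group F), orderOf z = r * s := by
  rintro ⟨z, hz⟩
  obtain ⟨x, y, hx, hy, hc⟩ := exists_parts Fact.out Fact.out hz
  exact hne (order_of_commute_big hF (hq ▸ (Nat.even_pow.2 ⟨even_two, by omega⟩)) he rfl hx hy hc)

theorem orderOf_two {n : ℕ} (hn : 1 ≤ n) : orderOf (((2 ^ n : ℕ)) : ZMod 2) = 0 := by
  have h : (((2 ^ n : ℕ)) : ZMod 2) = 0 := by
    rw [Nat.cast_pow, show ((2 : ℕ) : ZMod 2) = 0 from rfl, zero_pow (by omega)]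
  rw [h, orderOf_zero]

theorem criterion (hF : Fintype.card F = q) {n : ℕ} (hn : 1 ≤ n) (hq : q = 2 ^ n) {r s : ℕ} [Fact r.Prime]
    [Fact s.Prime] (hrs : r ≠ s) (hrG : r ∣ Nat.card ↥(chevF4.group F)) (hsG : s ∣ Nat.card ↥(chevF4.group F)) :
    (¬ ∃ z : ↥(chevF4.group F), orderOf z = r * s) ↔
      ((r = 2 ∧ (orderOf (q : ZMod s) = 8 ∨ orderOf (q : ZMod s) = 12)) ∨
        (s = 2 ∧ (orderOf (q : ZMod r) = 8 ∨ orderOf (q : ZMod r) = 12)) ∨
        (r ≠ 2 ∧ s ≠ 2 ∧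
          ((orderOf (q : ZMod r) < orderOf (q : ZMod s) ∧ NonAdj (orderOf (q : ZMod s)) (orderOf (q : ZMod r))) ∨
          (orderOf (q : ZMod s) < orderOf (q : ZMod r) ∧ NonAdj (orderOf (q : ZMod r)) (orderOf (q : ZMod s)))))) := by
  have h2 := two_eq_zero hF hn hq
  constructor
  · intro hno
    by_contra hR
    apply hno
    by_cases hr2 : r = 2
    · subst hr2
      have hs2 : s ≠ 2 := hrs.symm
      have hs := order_cases hF hq hs2 hsG
      rcases hs with h | h | h | h | h | h | h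
      · exact adj_sl hF h2 hrs (dvd_sl hF hn hq (Or.inr (Or.inl h))) (Or.inl rfl)
      · exact adj_sl hF h2 hrs (dvd_sl hF hn hq (Or.inr (Or.inr h))) (Or.inl rfl)
      iterate 3 exact adj_symm (adj_sl hF h2 hrs.symm (dvd_sl hF hn hq (Or.inl rfl)) (Or.inr ⟨hs2, by simp [h]⟩))
      · exact absurd (Or.inl ⟨rfl, Or.inl h⟩) hR
      · exact absurd (Or.inl ⟨rfl, Or.inr h⟩) hR
    by_cases hs2 : s = 2
    · subst hs2
      have hr := order_cases hF hq hr2 hrG
      rcases hr with h | h | h | h | h | h | h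
      · exact adj_symm (adj_sl hF h2 hrs.symm (dvd_sl hF hn hq (Or.inr (Or.inl h))) (Or.inl rfl))
      iterate 4 exact adj_sl hF h2 hrs (dvd_sl hF hn hq (Or.inl rfl)) (Or.inr ⟨hr2, by simp [h]⟩)
      · exact absurd (Or.inr (Or.inl ⟨rfl, Or.inl h⟩)) hR
      · exact absurd (Or.inr (Or.inl ⟨rfl, Or.inr h⟩)) hR
    have hr := order_cases hF hq hr2 hrG
    have hs := order_cases hF hq hs2 hsG
    simp only [NonAdj, hr2, hs2, ne_eq, not_false_eq_true, true_and, false_and, false_or] at hR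
    by_cases heq : orderOf (q : ZMod r) = orderOf (q : ZMod s)
    · rcases hr with h | h | h | h | h | h | h
      · exact adj_torus hF hrs h (heq ▸ h)
      · exact adj_sl hF h2 hrs (dvd_sl hF hn hq (Or.inr (Or.inr (heq ▸ h)))) (Or.inr ⟨hr2, by simp [h]⟩)
      iterate 3 exact exists_order_quad hF (e := orderOf (q : ZMod r)) (by omega) rfl heq.symm hrs
      iterate 2 exact exists_order_big hF (e := orderOf (q : ZMod r)) (by omega) rfl heq.symm hrs hrG
    · rcases lt_or_gt_of_ne heq with hlt | hlt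
      · refine adj_sl hF h2 (r := s) (s := r) hrs.symm (dvd_sl hF hn hq (Or.inr ?_)) (Or.inr ⟨hs2, ?_⟩) |> adj_symm
        · omega
        · simp only [List.mem_cons, List.not_mem_nil, or_false]
          omega
      · refine adj_sl hF h2 hrs (dvd_sl hF hn hq (Or.inr ?_)) (Or.inr ⟨hr2, ?_⟩)
        · omega
        · simp only [List.mem_cons, List.not_mem_nil, or_false]
          omega
  · rintro (⟨rfl, he⟩ | ⟨rfl, he⟩ | ⟨hr2, hs2, ⟨hlt, he⟩ | ⟨hlt, he⟩⟩)
    · refine fun h => not_adj_big hF hn hq he ?_ (adj_symm h)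
      rw [hq, orderOf_two hn, ← hq]; omega
    · refine not_adj_big hF hn hq he ?_
      rw [hq, orderOf_two hn, ← hq]; omega
    · rintro ⟨z, hz⟩
      obtain ⟨x, y, hx, hy, hc⟩ := exists_parts Fact.out Fact.out hz
      rcases he with h | h | ⟨h, h' | h'⟩ | ⟨h, h'⟩
      · exact not_adj_big hF hn hq (Or.inl h) hlt.ne ⟨z, by rw [hz, mul_comm]⟩
      · exact not_adj_big hF hn hq (Or.inr h) hlt.ne ⟨z, by rw [hz, mul_comm]⟩
      all_goals exact not_commute_mixed hF (by omega) h h' hy hx hc.symm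
    · rintro ⟨z, hz⟩
      obtain ⟨x, y, hx, hy, hc⟩ := exists_parts Fact.out Fact.out hz
      rcases he with h | h | ⟨h, h' | h'⟩ | ⟨h, h'⟩
      · exact not_adj_big hF hn hq (Or.inl h) hlt.ne ⟨z, hz⟩
      · exact not_adj_big hF hn hq (Or.inr h) hlt.ne ⟨z, hz⟩
      all_goals exact not_commute_mixed hF (by omega) h h' hx hy hc

end Cfsg.Agent.CG26.F4Graph
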