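import Cfsg.Agent.ChevTori.EigenDvd
import Mathlib.LinearAlgebra.Eigenspace.Zero
import Mathlib.LinearAlgebra.Charpoly.ToMatrix

/-!
An integral matrix of size four and finite order with a two-dimensional eigenspace modulo `r` for an eigenvalue
of order 3, 4 or 6.
-/

set_option autoImplicit false

namespace Cfsg.Agent.CG26.F4Graph

open Polynomial Matrix Cfsg.Agent.ChevTori

/-- A row vector vanishing on a full eigenspace of a quadratic matrix of trace `-2a` is an eigenvector for
the conjugate eigenvalue. -/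
theorem quad_annihilator {r l : ℕ} [Fact r.Prime] (hl : l = 4) (h5 : 5 ≤ r) {A : Matrix (Fin l) (Fin l) (ZMod r)}
    {a q : ZMod r} (hA : A * A + a • A + 1 = 0) (htr : A.trace = -2 * a) (hq : q ^ 2 + a * q + 1 = 0)
    (hd : 2 * q + a ≠ 0) {b₁ b₂ x : Fin l → ZMod r} (hb : LinearIndependent (ZMod r) ![b₁, b₂])
    (h1 : A *ᵥ b₁ = q • b₁) (h2 : A *ᵥ b₂ = q • b₂) (hx1 : x ⬝ᵥ b₁ = 0) (hx2 : x ⬝ᵥ b₂ = 0) :
    x ᵥ* A = -(a + q) • x := by
  classical
  subst hl
  set P : Matrix (Fin 4) (Fin 4) (ZMod r) := (2 * q + a)⁻¹ • (A + (a + q) • 1) with hP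
  have hAA : A * A = -(a • A) - 1 := by
    have h := eq_neg_of_add_eq_zero_left hA
    have h' := eq_sub_of_add_eq (show A * A + a • A = -1 from h)
    rw [h']
    abel
  have hsq : (A + (a + q) • 1) * (A + (a + q) • 1) = (2 * q + a) • (A + (a + q) • 1) := by
    rw [add_mul, mul_add, mul_add, hAA]
    simp only [smul_mul_assoc, mul_smul_comm, one_mul, mul_one, smul_add, smul_smul]
    match_scalars
    · ring
    · linear_combination (-1 : ZMod r) * hq
  have hPP : P * P = P := by
    rw [hP, smul_mul_assoc, mul_smul_comm, hsq, smul_smul (2 * q + a)⁻¹ (2 * q + a), inv_mul_cancel₀ hd,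
      one_smul]
  have htrP : P.trace = 2 := by
    rw [hP, Matrix.trace_smul, Matrix.trace_add, htr, Matrix.trace_smul, Matrix.trace_one, Fintype.card_fin]
    simp only [smul_eq_mul]
    rw [show (-2 * a + (a + q) * ((4 : ℕ) : ZMod r)) = (2 * q + a) * 2 by push_cast; ring,
      ← mul_assoc, inv_mul_cancel₀ hd, one_mul]
  have hfix : ∀ b, A *ᵥ b = q • b → P *ᵥ b = b := by
    intro b hb'
    rw [hP, Matrix.smul_mulVec, Matrix.add_mulVec, hb', Matrix.smul_mulVec, Matrix.one_mulVec, ← add_smul,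
      smul_smul, show q + (a + q) = 2 * q + a by ring, inv_mul_cancel₀ hd, one_smul]
  set f := Matrix.toLin' P with hf
  have hidem : IsIdempotentElem f := by
    show f * f = f
    rw [hf, Module.End.mul_eq_comp, ← Matrix.toLin'_mul, hPP]
  have hproj := f.isProj_range_iff_isIdempotentElem.2 hidem
  have hrank : Module.finrank (ZMod r) (LinearMap.range f) = 2 := by
    have h := hproj.trace
    rw [hf, Matrix.trace_toLin'_eq, htrP] at h
    have hle : Module.finrank (ZMod r) (LinearMap.range f) ≤ 4 := by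
      refine (Submodule.finrank_le _).trans ?_
      rw [Module.finrank_fin_fun]
    have h' : ((Module.finrank (ZMod r) (LinearMap.range f) : ℕ) : ZMod r) = ((2 : ℕ) : ZMod r) := by
      rw [Nat.cast_ofNat]
      exact h.symm
    rw [ZMod.natCast_eq_natCast_iff', Nat.mod_eq_of_lt (by omega), Nat.mod_eq_of_lt (by omega)] at h'
    exact h'
  have hspan : Submodule.span (ZMod r) (Set.range ![b₁, b₂]) = LinearMap.range f := by
    refine Submodule.eq_of_le_of_finrank_le ?_ ?_
    · rw [Submodule.span_le]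
      rintro _ ⟨j, rfl⟩
      refine ⟨![b₁, b₂] j, ?_⟩
      rw [hf, Matrix.toLin'_apply]
      fin_cases j
      · exact hfix _ h1
      · exact hfix _ h2
    · rw [hrank, finrank_span_eq_card hb, Fintype.card_fin]
  have hker : ∀ v, x ⬝ᵥ (P *ᵥ v) = 0 := by
    intro v
    have hv : P *ᵥ v ∈ Submodule.span (ZMod r) (Set.range ![b₁, b₂]) := by
      rw [hspan]; exact ⟨v, rfl⟩
    obtain ⟨c, hc⟩ := Submodule.mem_span_range_iff_exists_fun (ZMod r) |>.1 hv
    rw [← hc, Fin.sum_univ_two, dotProduct_add, dotProduct_smul, dotProduct_smul]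
    simp [hx1, hx2]
  have hxP : x ᵥ* P = 0 := by
    refine dotProduct_eq_zero _ fun v => ?_
    rw [← Matrix.dotProduct_mulVec]
    exact hker v
  rw [hP, Matrix.vecMul_smul, smul_eq_zero, or_iff_right (inv_ne_zero hd), Matrix.vecMul_add,
    Matrix.vecMul_smul, Matrix.vecMul_one] at hxP
  rw [neg_smul]
  exact eq_neg_of_add_eq_zero_left hxP

theorem cyclotomic_346 {e : ℕ} (he : e = 3 ∨ e = 4 ∨ e = 6) :
    ∃ a : ℤ, |a| ≤ 1 ∧ cyclotomic e ℤ = Polynomial.X ^ 2 + C a * Polynomial.X + 1 := by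
  rcases he with rfl | rfl | rfl
  · exact ⟨1, by norm_num, by rw [cyclotomic_three]; simp⟩
  · refine ⟨0, by norm_num, ?_⟩
    have h := cyclotomic_expand_eq_cyclotomic (p := 2) (n := 2) Nat.prime_two dvd_rfl ℤ
    rw [cyclotomic_two] at h
    rw [show (4 : ℕ) = 2 * 2 from rfl, ← h]
    simp
  · exact ⟨-1, by norm_num, by rw [cyclotomic_six]; simp [sub_eq_add_neg]⟩

theorem not_dvd_small {r : ℕ} (h5 : 5 ≤ r) {n : ℤ} (hn : n ≠ 0) (hb : |n| < 5) : ¬ (r : ℤ) ∣ n := by
  intro h
  have := Int.le_of_dvd (abs_pos.2 hn) ((dvd_abs _ _).2 h)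
  omega

/-- The characteristic polynomial is the square of a cyclotomic polynomial, and that kills the matrix. -/
theorem quad_charpoly {l : ℕ} {A : Matrix (Fin l) (Fin l) ℤ} {M r q e : ℕ} [Fact r.Prime] (hl : l = 4) (h5 : 5 ≤ r) (hM : M ≠ 0)
    (hAM : A ^ M = 1) (he : e = 3 ∨ e = 4 ∨ e = 6) (hq : orderOf (q : ZMod r) = e)
    (hdvd : cyclotomic e ℤ ∣ A.charpoly) {b₁ b₂ : Fin l → ZMod r} (hb : LinearIndependent (ZMod r) ![b₁, b₂])
    (h1 : A.map (Int.cast : ℤ → ZMod r) *ᵥ b₁ = (q : ZMod r) • b₁)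
    (h2 : A.map (Int.cast : ℤ → ZMod r) *ᵥ b₂ = (q : ZMod r) • b₂) :
    ∃ a : ℤ, |a| ≤ 1 ∧ A.charpoly = cyclotomic e ℤ * cyclotomic e ℤ ∧ A * A + a • A + 1 = 0 ∧
      A.trace = -2 * a ∧ (q : ZMod r) ^ 2 + (a : ZMod r) * q + 1 = 0 ∧
        2 * (q : ZMod r) + (a : ZMod r) ≠ 0 := by
  classical
  subst hl
  obtain ⟨a, ha, hΦ⟩ := cyclotomic_346 he
  set x : ZMod r := (q : ZMod r) with hxdef
  have hqa : x ^ 2 + (a : ZMod r) * x + 1 = 0 := by
    haveI : NeZero (e : ZMod r) := ⟨fun h' => by
      rw [ZMod.natCast_eq_zero_iff] at h'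
      have := Nat.le_of_dvd (by omega) h'
      have hrp : r.Prime := Fact.out
      rcases he with rfl | rfl | rfl <;> interval_cases r <;> norm_num at *⟩
    have h : (cyclotomic e (ZMod r)).eval x = 0 := by
      have h' : IsPrimitiveRoot x e := hq ▸ IsPrimitiveRoot.orderOf x
      exact isRoot_cyclotomic_iff.2 h'
    rw [← map_cyclotomic e (Int.castRingHom (ZMod r)), hΦ] at h
    simpa using h
  have hd : 2 * x + (a : ZMod r) ≠ 0 := by
    intro h0
    have h4 : (((a ^ 2 - 4 : ℤ)) : ZMod r) = 0 := by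
      push_cast
      linear_combination (2 * x + (a : ZMod r)) * h0 - 4 * hqa
    rw [ZMod.intCast_zmod_eq_zero_iff_dvd] at h4
    have ha2 : a ^ 2 ≤ 1 := by rw [← sq_abs]; nlinarith [abs_nonneg a]
    exact not_dvd_small h5 (by nlinarith) (by rw [abs_lt]; constructor <;> nlinarith [sq_nonneg a]) h4
  obtain ⟨g, hg⟩ := hdvd
  have hgm : g.Monic := (cyclotomic.monic e ℤ).of_mul_monic_left (hg ▸ A.charpoly_monic)
  have hte : e.totient = 2 := by rcases he with rfl | rfl | rfl <;> decide
  have hdeg : g.natDegree = 2 := by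
    have h := congrArg natDegree hg
    rw [(cyclotomic.monic e ℤ).natDegree_mul hgm, natDegree_cyclotomic, hte, A.charpoly_natDegree_eq_dim,
      Fintype.card_fin] at h
    omega
  obtain ⟨hform, hga, hgc⟩ := quadratic_factor hM hAM hgm hdeg ⟨_, hg.trans (mul_comm _ _)⟩
  -- the eigenvalue is a double root
  have hgq : (g.map (Int.castRingHom (ZMod r))).eval x = 0 := by
    have hmult : 2 ≤ (A.map (Int.cast : ℤ → ZMod r)).toLin'.charpoly.rootMultiplicity x := by
      refine le_trans ?_ (LinearMap.finrank_eigenspace_le _ x)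
      have hle : Submodule.span (ZMod r) (Set.range ![b₁, b₂]) ≤
          Module.End.eigenspace (A.map (Int.cast : ℤ → ZMod r)).toLin' x := by
        rw [Submodule.span_le]
        rintro _ ⟨j, rfl⟩
        rw [SetLike.mem_coe, Module.End.mem_eigenspace_iff, Matrix.toLin'_apply]
        fin_cases j
        · exact h1
        · exact h2
      refine le_trans ?_ (Submodule.finrank_mono hle)
      rw [finrank_span_eq_card hb, Fintype.card_fin]
    rw [Matrix.charpoly_toLin',
      show A.map (Int.cast : ℤ → ZMod r) = A.map (Int.castRingHom (ZMod r)) from rfl, Matrix.charpoly_map,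
      hg, Polynomial.map_mul] at hmult
    have hne : (cyclotomic e ℤ).map (Int.castRingHom (ZMod r)) * g.map (Int.castRingHom (ZMod r)) ≠ 0 :=
      (((cyclotomic.monic e ℤ).map _).mul (hgm.map _)).ne_zero
    obtain ⟨k, hk⟩ := (Polynomial.le_rootMultiplicity_iff hne).1 hmult
    have hder := congrArg (fun p => (derivative p).eval x) hk
    simp [derivative_mul, derivative_pow, hΦ] at hder
    try rw [Polynomial.derivative_map] at hder
    have h0 : (2 * x + (a : ZMod r)) * (g.map (Int.castRingHom (ZMod r))).eval x = 0 := by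
      linear_combination hder - ((derivative g).map (Int.castRingHom (ZMod r))).eval x * hqa
    exact (mul_eq_zero.1 h0).resolve_left hd
  set a' := g.coeff 1
  set c := g.coeff 0
  have hgq' : x ^ 2 + (a' : ZMod r) * x + (c : ZMod r) = 0 := by
    rw [hform] at hgq
    simpa using hgq
  have hx0 : x ≠ 0 := fun h => by simp [h] at hqa
  have hc1 : c = 1 ∧ a' = a := by
    rcases (abs_eq (zero_le_one' ℤ)).1 hgc with hc | hc
    · refine ⟨hc, ?_⟩
      have h : (((a' - a : ℤ)) : ZMod r) = 0 := by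
        have : (((a' - a : ℤ)) : ZMod r) * x = 0 := by
          push_cast
          rw [hc] at hgq'
          push_cast at hgq'
          linear_combination hgq' - hqa
        exact (mul_eq_zero.1 this).resolve_right hx0
      rw [ZMod.intCast_zmod_eq_zero_iff_dvd] at h
      by_contra hne
      refine not_dvd_small h5 (sub_ne_zero.2 hne) ?_ h
      have := abs_sub a' a
      omega
    · exfalso
      have ha0 : a' = 0 := by
        by_contra hne
        set z : ℝ := (-(a' : ℝ) + Real.sqrt ((a' : ℝ) ^ 2 + 4)) / 2 with hz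
        have hs := Real.sq_sqrt (show (0 : ℝ) ≤ (a' : ℝ) ^ 2 + 4 by positivity)
        have hz0 : z ^ 2 + (a' : ℝ) * z - 1 = 0 := by
          rw [hz]; linear_combination (1 / 4 : ℝ) * hs
        have hn : ‖(z : ℂ)‖ = 1 := norm_root_eq_one hM hAM (g := g) ⟨_, hg.trans (mul_comm _ _)⟩ _ (by
          rw [hform, eval₂_add, eval₂_add, eval₂_mul, eval₂_C, eval₂_C, eval₂_X_pow, eval₂_X, hc]
          simp only [eq_intCast]
          push_cast
          have := congrArg (fun t : ℝ => (t : ℂ)) hz0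
          push_cast at this
          linear_combination this)
        rw [Complex.norm_real, Real.norm_eq_abs, abs_eq zero_le_one] at hn
        have ha' : (a' : ℝ) ≠ 0 := Int.cast_ne_zero.2 hne
        rcases hn with hn | hn <;> rw [hn] at hz0 <;> exact ha' (by linarith)
      rw [ha0, hc] at hgq'
      push_cast at hgq'
      have h2' : x ^ 2 = 1 := by linear_combination hgq'
      have := orderOf_dvd_of_pow_eq_one h2'
      rw [hq] at this
      have := Nat.le_of_dvd two_pos this
      omega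
  have hgΦ : g = cyclotomic e ℤ := by rw [hform, hc1.1, hc1.2, hΦ, map_one]
  have hcp : A.charpoly = cyclotomic e ℤ * cyclotomic e ℤ := by rw [hg, hgΦ]
  refine ⟨a, ha, hcp, ?_, ?_, hqa, hd⟩
  · -- the minimal polynomial is squarefree
    set PQ : Matrix (Fin 4) (Fin 4) ℚ := (Int.castRingHom ℚ).mapMatrix A with hPQ
    have hmapQ : ∀ p : ℤ[X], aeval PQ (p.map (Int.castRingHom ℚ)) = (Int.castRingHom ℚ).mapMatrix (aeval A p) := by
      intro p
      rw [hPQ, aeval_def, eval₂_map, aeval_def]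
      conv_rhs => rw [Polynomial.hom_eval₂]
      congr 1
      exact RingHom.ext_int _ _
    have hμ1 : minpoly ℚ PQ ∣ Polynomial.X ^ M - 1 := minpoly.dvd ℚ PQ (by
      rw [map_sub, map_pow, aeval_X, map_one, hPQ, ← map_pow, hAM, map_one, sub_self])
    have hsq : Squarefree (minpoly ℚ PQ) :=
      Squarefree.squarefree_of_dvd hμ1
        (Polynomial.X_pow_sub_one_separable_iff.2 (Nat.cast_ne_zero.2 hM)).squarefree
    have hμ2 : minpoly ℚ PQ ∣ cyclotomic e ℚ ^ 2 := by
      rw [sq, ← map_cyclotomic e (Int.castRingHom ℚ), ← Polynomial.map_mul, ← hcp]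
      exact minpoly.dvd ℚ PQ (by rw [hmapQ, Matrix.aeval_self_charpoly, map_zero])
    obtain ⟨k, hk⟩ := (hsq.dvd_pow_iff_dvd two_ne_zero).1 hμ2
    have h0 : aeval A (cyclotomic e ℤ) = 0 := by
      have hinj : Function.Injective ((Int.castRingHom ℚ).mapMatrix : Matrix (Fin 4) (Fin 4) ℤ →+* _) :=
        Matrix.map_injective Int.cast_injective
      apply hinj
      rw [← hmapQ, map_cyclotomic, hk, map_mul, minpoly.aeval, zero_mul, map_zero]
    rw [hΦ] at h0
    simpa [sq, Algebra.smul_def] using h0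
  · rw [Matrix.trace_eq_neg_charpoly_coeff, hcp, hΦ, Fintype.card_fin]
    rw [show (Polynomial.X ^ 2 + C a * Polynomial.X + 1) * (Polynomial.X ^ 2 + C a * Polynomial.X + 1) =
      Polynomial.X ^ 4 + C (2 * a) * Polynomial.X ^ 3 + C (a * a + 2) * Polynomial.X ^ 2 + C (2 * a) * Polynomial.X
        + C 1 by simp only [map_mul, map_add, map_ofNat, map_one]; ring]
    simp only [Polynomial.coeff_add, Polynomial.coeff_C_mul, Polynomial.coeff_X_pow, Polynomial.coeff_C,
      Polynomial.coeff_X]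
    norm_num

end Cfsg.Agent.CG26.F4Graph
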