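import Cfsg.Agent.CG26.F4Graph.Tori
import Cfsg.Agent.CG26.F4Graph.Quad

/-!
Two primes modulo which `q` has the same order 3, 4 or 6 are adjacent in F4(q).
-/

set_option autoImplicit false
set_option maxRecDepth 20000

namespace Cfsg.Agent.CG26.F4Graph

open Cfsg.Lie Cfsg.Agent.ChevGroup Cfsg.Agent.ChevCore Cfsg.Agent.ChevTori Cfsg.Agent.ChevFixed Matrix
open Cfsg.Agent.ChevGroup.TypeF4 (model wit_ok longest_ok pos_span)

universe u

/-- A large commutative group of exponent dividing `r ^ a` has two independent elements of order `r`. -/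
theorem exists_indep {G : Type*} [Group G] (P : Subgroup G) [Finite P] {r a : ℕ} [Fact r.Prime]
    (hcomm : ∀ x ∈ P, ∀ y ∈ P, x * y = y * x) (hexp : ∀ y ∈ P, y ^ r ^ a = 1) (hcard : r ^ a < Nat.card P) :
    ∃ y₁ ∈ P, ∃ y₂ ∈ P, orderOf y₁ = r ∧ orderOf y₂ = r ∧ y₂ ∉ Subgroup.zpowers y₁ := by
  classical
  have hr : r.Prime := Fact.out
  letI : CommGroup P := { (inferInstance : Group P) with mul_comm := fun x y => Subtype.ext (hcomm _ x.2 _ y.2) }
  set K := (powMonoidHom r : P →* P).ker with hK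
  have key : ∀ k, Nat.card (powMonoidHom (r ^ k) : P →* P).ker ≤ Nat.card K ^ k := by
    intro k
    induction k with
    | zero =>
      rw [pow_zero, pow_zero]
      have h : (powMonoidHom 1 : P →* P).ker = ⊥ := by
        ext x
        simp
      rw [h, Subgroup.card_bot]
    | succ k ih =>
      let φ : (powMonoidHom (r ^ (k + 1)) : P →* P).ker →* (powMonoidHom (r ^ k) : P →* P).ker :=
        { toFun := fun x => ⟨x.1 ^ r, by
            show (x.1 ^ r) ^ r ^ k = 1
            rw [← pow_mul, ← pow_succ']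
            exact x.2⟩
          map_one' := Subtype.ext (one_pow r)
          map_mul' := fun x y => Subtype.ext (mul_pow x.1 y.1 r) }
      have h1 : Nat.card φ.ker ≤ Nat.card K := by
        refine Nat.card_le_card_of_injective (fun x => (⟨x.1.1, congrArg Subtype.val (x.2 : φ x.1 = 1)⟩ : K)) ?_
        intro x y h
        exact Subtype.ext (Subtype.ext (congrArg (fun z : K => z.1) h))
      calc Nat.card (powMonoidHom (r ^ (k + 1)) : P →* P).ker
          = Nat.card φ.ker * φ.ker.index := (φ.ker.card_mul_index).symm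
        _ ≤ Nat.card K * Nat.card K ^ k := by
            refine Nat.mul_le_mul h1 ?_
            rw [Subgroup.index_ker]
            exact le_trans (Nat.card_le_card_of_injective _ Subtype.val_injective) ih
        _ = Nat.card K ^ (k + 1) := (pow_succ' _ _).symm
  have htop : (powMonoidHom (r ^ a) : P →* P).ker = ⊤ := by
    refine eq_top_iff.2 fun x _ => ?_
    exact Subtype.ext (by simpa using hexp _ x.2)
  have hKr : r < Nat.card K := by
    by_contra h
    have h2 := (key a).trans (Nat.pow_le_pow_left (not_lt.1 h) a)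
    rw [htop, Subgroup.card_top] at h2
    omega
  obtain ⟨x₁, hx₁, hx₁1⟩ := K.bot_or_exists_ne_one.resolve_left (fun h => by
    rw [h, Subgroup.card_bot] at hKr; have := hr.two_le; omega)
  have ho : ∀ x : P, x ∈ K → x ≠ 1 → orderOf (x : G) = r := fun x hx hx1 => by
    rw [Subgroup.orderOf_coe]; exact orderOf_eq_prime hx hx1
  have hnot : ¬ K ≤ Subgroup.zpowers x₁ := fun h => by
    have h' := Subgroup.card_le_of_le h
    rw [Nat.card_zpowers, orderOf_eq_prime hx₁ hx₁1] at h'
    omega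
  obtain ⟨x₂, hx₂, hx₂n⟩ := SetLike.not_le_iff_exists.1 hnot
  refine ⟨x₁.1, x₁.2, x₂.1, x₂.2, ho x₁ hx₁ hx₁1, ho x₂ hx₂ (fun h => hx₂n (h ▸ one_mem _)), fun h => ?_⟩
  obtain ⟨m, hm⟩ := Subgroup.mem_zpowers_iff.1 h
  exact hx₂n (Subgroup.mem_zpowers_iff.2 ⟨m, Subtype.ext (by simpa using hm)⟩)

theorem cf_nonzero {r : ℕ} (hr : r.Prime) (h5 : 5 ≤ r) (s : Fin model.tab.n) :
    ∃ i, ¬ (r : ℤ) ∣ cf model s i := by
  have h := List.all_eq_true.1 prop_ok s (List.mem_finRange s)
  rw [Bool.and_eq_true, List.any_eq_true] at h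
  obtain ⟨i, -, hi⟩ := h.1
  refine ⟨i, fun hd => ?_⟩
  rw [List.elem_eq_mem, decide_eq_true_eq] at hi
  have hd' := Int.natCast_dvd.1 hd
  simp only [List.mem_cons, List.not_mem_nil, or_false] at hi
  rcases hi with e | e | e | e <;> rw [e] at hd' <;> have := Nat.le_of_dvd (by norm_num) hd' <;> omega

theorem cf_minor {r : ℕ} (hr : r.Prime) (h5 : 5 ≤ r) {a b : Fin model.tab.n} (hab : a ≠ b)
    (hn : a ≠ model.S.neg b) :
    ∃ i j, ¬ (r : ℤ) ∣ cf model a i * cf model b j - cf model a j * cf model b i := by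
  have h := List.all_eq_true.1 prop_ok a (List.mem_finRange a)
  rw [Bool.and_eq_true] at h
  have h2 := List.all_eq_true.1 h.2 b (List.mem_finRange b)
  simp only [Bool.or_eq_true, decide_eq_true_eq, hab, hn, false_or, List.any_eq_true] at h2
  obtain ⟨i, -, j, -, hij⟩ := h2
  refine ⟨i, j, fun hd => ?_⟩
  rw [List.elem_eq_mem, decide_eq_true_eq] at hij
  have hd' := Int.natCast_dvd.1 hd
  have h72 : ∀ n ∈ ([1, 2, 3, 4, 6, 8, 9, 12] : List ℕ), n ∣ 2 ^ 3 * 3 ^ 2 := by decide
  rcases hr.dvd_mul.1 (hd'.trans (h72 _ hij)) with h' | h' <;>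
    have := Nat.le_of_dvd (by norm_num) (hr.dvd_of_dvd_pow h') <;> omega

variable {F₀ : Type u} [Field F₀] [Fintype F₀] {q : ℕ}

theorem sq_dvd_card (hF : Fintype.card F₀ = q) {e : ℕ} (he : e = 3 ∨ e = 4 ∨ e = 6) :
    (q ^ e - 1) ^ 2 ∣ Nat.card ↥(chevF4.group F₀) := by
  rw [TypeF4.card_group (torusFacts_of_good hG4) (relsOfCommGood hC4 F₀) hF, sq]
  have h12 : q ^ e - 1 ∣ q ^ 12 - 1 :=
    Nat.pow_sub_one_dvd_pow_sub_one q (by rcases he with rfl | rfl | rfl <;> norm_num)
  refine mul_dvd_mul ?_ h12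
  rcases he with rfl | rfl | rfl
  · exact dvd_mul_of_dvd_left (dvd_mul_of_dvd_right (Nat.pow_sub_one_dvd_pow_sub_one q (by norm_num)) _) _
  · exact dvd_mul_of_dvd_right (Nat.pow_sub_one_dvd_pow_sub_one q (by norm_num)) _
  · exact dvd_mul_of_dvd_left (dvd_mul_of_dvd_right dvd_rfl _) _

/-- Two primes of the same order 3, 4 or 6 are adjacent. -/
theorem exists_order_quad (hF : Fintype.card F₀ = q) {r s e : ℕ} [Fact r.Prime] [Fact s.Prime]
    (he : e = 3 ∨ e = 4 ∨ e = 6) (hr : orderOf (q : ZMod r) = e) (hs : orderOf (q : ZMod s) = e) (hrs : r ≠ s) :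
    ∃ z : ↥(chevF4.group F₀), orderOf z = r * s := by
  classical
  have he3 : 3 ≤ e := by omega
  have hq1 : 1 ≤ q := hF ▸ Fintype.card_pos
  have hq2 : 2 ≤ q := hF ▸ Fintype.one_lt_card
  have hrp : r.Prime := Fact.out
  obtain ⟨F, _, _, σ, i, hQ, hσ, hi⟩ := exists_ext hF (d := e) (by omega)
  have h5 := five_le hr he3
  have hW := not_dvd_weyl hrp h5
  obtain ⟨ζ, hζ⟩ := exists_zeta hQ hr hq1 dvd_rfl
  set m := q ^ e - 1 with hm
  have hm0 : m ≠ 0 := by
    have := Nat.one_lt_pow (show e ≠ 0 by omega) hq2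
    omega
  set a := m.factorization r with ha
  have ha1 : 1 ≤ a := hrp.factorization_pos_of_dvd hm0 (dvd_pow_sub_one hr hq1 dvd_rfl)
  obtain ⟨P⟩ := (inferInstance : Nonempty (Sylow r ↥(chevF4.group F₀)))
  obtain ⟨g, -, hg⟩ := conj_into model uGoodF4 (K := ⊤) le_top
    (fac_eq h5 (by rw [hQ, Nat.cast_pow, ← hr, pow_orderOf_eq_one]))
    (P.isPGroup'.map (mapGroup (D := chevF4) i)) le_top
  have hgP : ∀ y ∈ (P : Subgroup ↥(chevF4.group F₀)), g * mapGroup i y * g⁻¹ ∈ (rr model uGoodF4).H :=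
    fun y hy => hg _ (Subgroup.mem_map_of_mem _ hy)
  have hord : ∀ y : ↥(chevF4.group F₀), orderOf (g * mapGroup i y * g⁻¹) = orderOf y := fun y => by
    rw [← orderOf_injective _ (mapGroup_injective (D := chevF4) i) y]
    exact orderOf_injective (MulAut.conj g).toMonoidHom (MulAut.conj g).injective _
  have hcomm : ∀ x ∈ (P : Subgroup ↥(chevF4.group F₀)), ∀ y ∈ (P : Subgroup ↥(chevF4.group F₀)),
      x * y = y * x := by
    intro x hx y hy
    have h1 := H_commute model uGoodF4 (hgP x hx) (hgP y hy)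
    refine mapGroup_injective (D := chevF4) i ?_
    rw [map_mul, map_mul]
    calc mapGroup i x * mapGroup i y = g⁻¹ * (g * mapGroup i x * g⁻¹ * (g * mapGroup i y * g⁻¹)) * g := by group
      _ = _ := by rw [h1]; group
  obtain ⟨y₁, hy₁, y₂, hy₂, hy₁o, hy₂o, hind⟩ := exists_indep (P : Subgroup ↥(chevF4.group F₀)) (r := r) (a := a)
    hcomm (fun y hy => by
      obtain ⟨k, hk⟩ := (IsPGroup.iff_orderOf.1 P.isPGroup') ⟨y, hy⟩
      rw [← Subgroup.orderOf_coe] at hk
      have h1 : r ^ k ∣ m := by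
        rw [← hk, ← hord y, hm, ← hQ]
        exact orderOf_dvd_of_pow_eq_one (pow_card_sub_one model uGoodF4 (hgP y hy))
      rw [← orderOf_dvd_iff_pow_eq_one, show orderOf y = r ^ k from hk]
      exact pow_dvd_pow r ((hrp.pow_dvd_iff_le_factorization hm0).1 h1))
    (by
      rw [P.card_eq_multiplicity]
      refine Nat.pow_lt_pow_right hrp.one_lt ?_
      have h2 := (Nat.factorization_le_iff_dvd (pow_ne_zero 2 hm0) Nat.card_pos.ne').2
        (sq_dvd_card (F₀ := F₀) hF he) r
      rw [Nat.factorization_pow, Finsupp.smul_apply, smul_eq_mul, ← ha] at h2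
      omega)
  set t₁ := g * mapGroup i y₁ * g⁻¹ with ht₁def
  set t₂ := g * mapGroup i y₂ * g⁻¹ with ht₂def
  have ht₁ : t₁ ∈ (rr model uGoodF4).H := hgP _ hy₁
  have ht₂ : t₂ ∈ (rr model uGoodF4).H := hgP _ hy₂
  have ht₁o : orderOf t₁ = r := (hord y₁).trans hy₁o
  have ht₂o : orderOf t₂ = r := (hord y₂).trans hy₂o
  obtain ⟨v, hv⟩ := exists_word model uGoodF4 wit_ok longest_ok pos_span (mapGroup σ g * g⁻¹)
  obtain ⟨b₁, hb₁, hb₁0, heig₁⟩ := exists_eigen model uGoodF4 hζ ht₁ ht₁o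
    (hv _ _ ht₁ (pow_mem ht₁ q) (twist_eq model uGoodF4 σ i hσ hi g ht₁))
  obtain ⟨b₂, hb₂, hb₂0, heig₂⟩ := exists_eigen model uGoodF4 hζ ht₂ ht₂o
    (hv _ _ ht₂ (pow_mem ht₂ q) (twist_eq model uGoodF4 σ i hσ hi g ht₂))
  have hlin : LinearIndependent (ZMod r) ![(fun j => (b₁ j : ZMod r)), (fun j => (b₂ j : ZMod r))] := by
    rw [LinearIndependent.pair_iff' hb₁0]
    intro c hc
    apply hind
    refine Subgroup.mem_zpowers_iff.2 ⟨(c.val : ℤ), ?_⟩
    have hψ : (⟨t₁, ht₁⟩ : ↥(rr (F := F) model uGoodF4).H) ^ (c.val : ℤ) = ⟨t₂, ht₂⟩ := by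
      refine psi_injective model uGoodF4 ?_
      rw [map_zpow, hb₁, hb₂]
      funext j
      rw [Pi.pow_apply, ← _root_.zpow_mul]
      refine zpow_eq_zpow_iff_modEq.2 ?_
      rw [hζ, ← ZMod.intCast_eq_intCast_iff]
      have := congrFun hc j
      rw [Pi.smul_apply, smul_eq_mul] at this
      rw [← this]
      push_cast
      rw [ZMod.natCast_val, ZMod.cast_id]
      ring
    have h2 : t₁ ^ (c.val : ℤ) = t₂ := congrArg Subtype.val hψ
    refine mapGroup_injective (D := chevF4) i ?_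
    rw [map_zpow]
    rw [ht₁def, ht₂def, conj_zpow] at h2
    exact mul_left_cancel (mul_right_cancel h2)
  set γ := pw model v.reverse with hγdef
  have hγ : γ ∈ weyl model := prod_mem_weyl model _
  have hl4 : model.tab.l = 4 := by decide
  have hM : Av model v ^ orderOf γ = 1 :=
    (Pg_pow hG4 hγ (orderOf γ)).symm.trans (by rw [pow_orderOf_eq_one]; exact Pg_one hG4)
  obtain ⟨α, hα, hcp, hAA, htr, hqa, hd⟩ := quad_charpoly (A := Av model v) hl4 h5
    (orderOf_pos γ).ne' hM he hr (cyclotomic_dvd model uGoodF4 hr hW hb₁0 heig₁) hlin heig₁ heig₂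
  -- regularity
  have hreg : ∀ s, ∃ k ∈ (Finset.univ : Finset (Fin 2)), ¬ (r : ℤ) ∣ ev model (![b₁, b₂] k) s := by
    intro u
    by_contra hno
    push Not at hno
    have hk1 : (r : ℤ) ∣ ev model b₁ u := hno 0 (Finset.mem_univ _)
    have hk2 : (r : ℤ) ∣ ev model b₂ u := hno 1 (Finset.mem_univ _)
    have hzero : ∀ b : Fin model.tab.l → ℤ, (r : ℤ) ∣ ev model b u →
        (fun j => (cf model u j : ZMod r)) ⬝ᵥ (fun j => (b j : ZMod r)) = 0 := by
      intro b h
      have h' := (ZMod.intCast_zmod_eq_zero_iff_dvd _ r).2 h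
      simp only [ev, Int.cast_sum, Int.cast_mul] at h'
      exact h'
    set Ar := (Av model v).map (Int.cast : ℤ → ZMod r) with hAr
    have hAr2 : Ar * Ar + (α : ZMod r) • Ar + 1 = 0 := by
      have h := congrArg (Int.castRingHom (ZMod r)).mapMatrix hAA
      rw [map_add, map_add, map_mul, map_one, map_zero, map_zsmul, ← Int.cast_smul_eq_zsmul (ZMod r)] at h
      exact h
    have htr' : Ar.trace = -2 * (α : ZMod r) := by
      show ∑ j, ((Av model v j j : ℤ) : ZMod r) = _
      rw [← Int.cast_sum, show ∑ j, Av model v j j = (Av model v).trace from rfl, htr]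
      push_cast
      ring
    have hkey := quad_annihilator hl4 h5 hAr2 htr' hqa hd hlin heig₁ heig₂ (hzero b₁ hk1) (hzero b₂ hk2)
    have hcfA : ∀ k : Fin model.tab.l, (cf model (γ u) k : ZMod r) = -((α : ZMod r) + q) * (cf model u k : ZMod r) := by
      intro k
      have h := congrFun hkey k
      rw [Pi.smul_apply, smul_eq_mul] at h
      rw [← h, cf_weyl hG4 hγ, Int.cast_sum]
      simp only [Int.cast_mul]
      rfl
    by_cases h1 : γ u = u
    · obtain ⟨j, hj⟩ := cf_nonzero hrp h5 u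
      have hvm : (cf model u) ᵥ* Av model v = cf model u := by
        funext k
        have h := cf_weyl hG4 hγ u k
        rw [h1] at h
        exact h.symm
      have h := congrArg (fun M => ((cf model u) ᵥ* M) j) hAA
      simp only [Matrix.vecMul_add, Matrix.vecMul_smul, Matrix.vecMul_one, ← Matrix.vecMul_vecMul, hvm,
        Matrix.vecMul_zero, Pi.add_apply, Pi.smul_apply, Pi.zero_apply, smul_eq_mul] at h
      have h0 : (2 + α) * cf model u j = 0 := by linear_combination h
      rw [abs_le] at hα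
      rcases mul_eq_zero.1 h0 with h2 | h2
      · omega
      · exact hj (h2 ▸ dvd_zero _)
    by_cases h2 : γ u = model.S.neg u
    · obtain ⟨j, hj⟩ := cf_nonzero hrp h5 u
      have hvm : (cf model u) ᵥ* Av model v = -(cf model u) := by
        funext k
        have h := cf_weyl hG4 hγ u k
        rw [h2, cf_neg hG4] at h
        exact h.symm
      have h := congrArg (fun M => ((cf model u) ᵥ* M) j) hAA
      simp only [Matrix.vecMul_add, Matrix.vecMul_smul, Matrix.vecMul_one, ← Matrix.vecMul_vecMul, hvm,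
        Matrix.neg_vecMul, Matrix.vecMul_zero, Pi.add_apply, Pi.smul_apply, Pi.neg_apply, Pi.zero_apply,
        smul_eq_mul] at h
      have h0 : (2 - α) * cf model u j = 0 := by linear_combination h
      rw [abs_le] at hα
      rcases mul_eq_zero.1 h0 with h3 | h3
      · omega
      · exact hj (h3 ▸ dvd_zero _)
    obtain ⟨j, k, hjk⟩ := cf_minor hrp h5 h1 h2
    refine hjk ((ZMod.intCast_zmod_eq_zero_iff_dvd _ r).1 ?_)
    push_cast
    rw [hcfA, hcfA]
    ring
  refine exists_order_mul σ i hσ hi g (S := {y₁, y₂}) ?_ ?_ ?_ hv hrs (Or.inl rfl) hy₁o ?_ ?_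
  · rintro y (rfl | hy)
    · exact ht₁
    · rw [Set.mem_singleton_iff.1 hy]; exact ht₂
  · intro u
    obtain ⟨k, -, hk⟩ := hreg u
    fin_cases k
    · exact ⟨y₁, Or.inl rfl, fun e => hk ((chi_eq_one_iff model uGoodF4 hζ hb₁ u).1 e)⟩
    · exact ⟨y₂, Or.inr rfl, fun e => hk ((chi_eq_one_iff model uGoodF4 hζ hb₂ u).1 e)⟩
  · intro w hw u
    have hs₁ := mem_stab model uGoodF4 hζ hb₁ (hw y₁ (Or.inl rfl))
    have hs₂ := mem_stab model uGoodF4 hζ hb₂ (hw y₂ (Or.inr rfl))
    have h4 := stab_trivial model uGoodF4 (Finset.univ : Finset (Fin 2)) ![b₁, b₂] fix4 hW hreg hs₁.1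
      (fun k _ => by fin_cases k <;> assumption)
    have h5 : model.S.actw w.reverse u = u := by rw [← pw_apply, h4]; rfl
    have h6 := model.S.actw_reverse w u
    rwa [h5] at h6
  · rw [hQ]; exact dvd_pow_sub_one hs hq1 dvd_rfl
  · have hcp' : (Av model v).charpoly = Polynomial.cyclotomic e ℤ * Polynomial.cyclotomic e ℤ := hcp
    rw [hcp', Polynomial.map_mul, Polynomial.eval_mul, Polynomial.map_cyclotomic,
      eval_cyclotomic_eq_zero hs (by omega), mul_zero]

end Cfsg.Agent.CG26.F4Graph
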