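import Cfsg.Agent.ChevTori.Root
import Cfsg.Agent.ChevTori.Group
import Cfsg.Agent.ChevGroup.Mat.F4
import Cfsg.Agent.Lib.ChevCore.CommAll

/-!
The elements of the Weyl group of type F4, as products along the parabolic chain, and finite checks on them.
-/

set_option autoImplicit false
set_option maxRecDepth 100000

namespace Cfsg.Agent.CG26.F4Graph

open Cfsg.Lie Cfsg.Agent.ChevGroup Cfsg.Agent.ChevCore Cfsg.Agent.ChevTori
open Cfsg.Agent.ChevGroup.TypeF4 (model)

/-- Two words act in the same way. -/
def sameB (a b : List (Fin model.tab.l)) : Bool :=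
  (List.finRange model.tab.n).all fun s => decide (model.S.actw a s = model.S.actw b s)

/-- The coset words of one level are closed under the generators, up to the next level. -/
def covB (K J : List (Fin model.tab.l)) (R : List (List (Fin model.tab.l))) : Bool :=
  R.elem [] && R.all fun c => K.all fun i => R.any fun c' =>
    sameB (i :: c) c' || J.any fun j => sameB (i :: c) (c' ++ [j])

theorem sameB_iff {a b : List (Fin model.tab.l)} :
    sameB a b = true ↔ ∀ s, model.S.actw a s = model.S.actw b s := by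
  simp [sameB, List.all_eq_true]

theorem covB_spec {K J : List (Fin model.tab.l)} {R : List (List (Fin model.tab.l))} (h : covB K J R = true) :
    ∀ w : List (Fin model.tab.l), (∀ i ∈ w, i ∈ K) →
      ∃ c ∈ R, ∃ u : List (Fin model.tab.l), (∀ j ∈ u, j ∈ J) ∧
        ∀ s, model.S.actw w s = model.S.actw (c ++ u) s := by
  simp only [covB, Bool.and_eq_true, List.all_eq_true, List.any_eq_true, Bool.or_eq_true,
    List.elem_eq_mem, decide_eq_true_eq] at h
  intro w
  induction w with
  | nil => exact fun _ => ⟨[], h.1, [], by simp, fun s => rfl⟩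
  | cons i w ih =>
    intro hw
    obtain ⟨c, hc, u, hu, e⟩ := ih fun j hj => hw j (List.mem_cons_of_mem _ hj)
    obtain ⟨c', hc', hcase⟩ := h.2 c hc i (hw i List.mem_cons_self)
    rcases hcase with h1 | ⟨j, hj, h1⟩
    · refine ⟨c', hc', u, hu, fun s => ?_⟩
      rw [model.S.actw_cons, e, model.S.actw_append, ← model.S.actw_cons i c, sameB_iff.1 h1,
        ← model.S.actw_append]
    · refine ⟨c', hc', j :: u, List.forall_mem_cons.2 ⟨hj, hu⟩, fun s => ?_⟩
      rw [model.S.actw_cons, e, model.S.actw_append, ← model.S.actw_cons i c, sameB_iff.1 h1,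
        ← model.S.actw_append, List.append_assoc, List.singleton_append]

/-- The coset words of level 0. -/
def reps0 : List (List (Fin 4)) := [[],
      [3],
      [2, 3],
      [1, 2, 3],
      [0, 1, 2, 3],
      [2, 1, 2, 3],
      [2, 0, 1, 2, 3],
      [3, 2, 1, 2, 3],
      [1, 2, 0, 1, 2, 3],
      [3, 2, 0, 1, 2, 3],
      [2, 1, 2, 0, 1, 2, 3],
      [3, 1, 2, 0, 1, 2, 3],
      [3, 2, 1, 2, 0, 1, 2, 3],
      [2, 3, 1, 2, 0, 1, 2, 3],
      [2, 3, 2, 1, 2, 0, 1, 2, 3],
      [1, 2, 3, 1, 2, 0, 1, 2, 3],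
      [1, 2, 3, 2, 1, 2, 0, 1, 2, 3],
      [0, 1, 2, 3, 1, 2, 0, 1, 2, 3],
      [0, 1, 2, 3, 2, 1, 2, 0, 1, 2, 3],
      [2, 1, 2, 3, 2, 1, 2, 0, 1, 2, 3],
      [2, 0, 1, 2, 3, 2, 1, 2, 0, 1, 2, 3],
      [1, 2, 0, 1, 2, 3, 2, 1, 2, 0, 1, 2, 3],
      [2, 1, 2, 0, 1, 2, 3, 2, 1, 2, 0, 1, 2, 3],
      [3, 2, 1, 2, 0, 1, 2, 3, 2, 1, 2, 0, 1, 2, 3]]

theorem cov0 : covB ([0, 1, 2, 3] : List (Fin 4)) ([0, 1, 2] : List (Fin 4)) reps0 = true := by decide +kernel

/-- The coset words of level 1. -/
def reps1 : List (List (Fin 4)) := [[],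
      [2],
      [1, 2],
      [0, 1, 2],
      [2, 1, 2],
      [2, 0, 1, 2],
      [1, 2, 0, 1, 2],
      [2, 1, 2, 0, 1, 2]]

theorem cov1 : covB ([0, 1, 2] : List (Fin 4)) ([0, 1] : List (Fin 4)) reps1 = true := by decide +kernel

/-- The coset words of level 2. -/
def reps2 : List (List (Fin 4)) := [[],
      [1],
      [0, 1]]

theorem cov2 : covB ([0, 1] : List (Fin 4)) ([0] : List (Fin 4)) reps2 = true := by decide +kernel

/-- The coset words of level 3. -/
def reps3 : List (List (Fin 4)) := [[],
      [0]]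

theorem cov3 : covB ([0] : List (Fin 4)) ([] : List (Fin 4)) reps3 = true := by decide +kernel

/-- A word for every element of the Weyl group. -/
def allW : List (List (Fin model.tab.l)) :=
  reps0.flatMap fun a => reps1.flatMap fun b => reps2.flatMap fun c => reps3.map fun d => a ++ (b ++ (c ++ d))

theorem exists_mem_allW {γ : Equiv.Perm (Fin model.tab.n)} (hγ : γ ∈ weyl model) :
    ∃ w ∈ allW, ∀ s, γ s = model.S.actw w s := by
  obtain ⟨w, rfl⟩ := exists_word_of_mem model hγ
  obtain ⟨a, ha, u, hu, e0⟩ := covB_spec cov0 w fun i _ => (by decide : ∀ i : Fin 4, i ∈ ([0, 1, 2, 3] : List (Fin 4))) i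
  obtain ⟨b, hb, u1, hu1, e1⟩ := covB_spec cov1 u hu
  obtain ⟨c, hc, u2, hu2, e2⟩ := covB_spec cov2 u1 hu1
  obtain ⟨d, hd, u3, hu3, e3⟩ := covB_spec cov3 u2 hu2
  obtain rfl : u3 = [] := List.eq_nil_iff_forall_not_mem.2 fun j hj => List.not_mem_nil (hu3 j hj)
  refine ⟨a ++ (b ++ (c ++ d)), ?_, fun s => ?_⟩
  · exact List.mem_flatMap.2 ⟨a, ha, List.mem_flatMap.2 ⟨b, hb, List.mem_flatMap.2 ⟨c, hc,
      List.mem_map.2 ⟨d, hd, rfl⟩⟩⟩⟩
  · rw [prod_reflPerm, e0, model.S.actw_append, e1, model.S.actw_append, e2, model.S.actw_append, e3,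
      List.append_nil, ← model.S.actw_append c d, ← model.S.actw_append b, ← model.S.actw_append a]

/-- The trace of a word on the root lattice. -/
noncomputable def trW (w : List (Fin model.tab.l)) : ℤ :=
  ksum ((List.finRange model.tab.l).map fun j => cf model (model.S.actw w (model.S.simple j)) j)

/-- A polynomial of degree four in a word kills a fundamental root. -/
noncomputable def killB (w : List (Fin model.tab.l)) (c0 c1 c2 c3 : ℤ) : Bool :=
  (List.finRange model.tab.l).all fun j =>
    let r0 := model.S.simple j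
    let r1 := model.S.actw w r0
    let r2 := model.S.actw w r1
    let r3 := model.S.actw w r2
    let r4 := model.S.actw w r3
    (List.finRange model.tab.l).all fun k =>
      decide (c0 * cf model r0 k + c1 * cf model r1 k + c2 * cf model r2 k + c3 * cf model r3 k +
        cf model r4 k = 0)

/-- No element has characteristic polynomial `Φ₃Φ₆`, `Φ₄Φ₆` or `Φ₃Φ₄`. -/
noncomputable def mixB (w : List (Fin model.tab.l)) : Bool :=
  !(decide (trW w = 0) && killB w 1 0 1 0) && !(decide (trW w = 1) && killB w 1 (-1) 2 (-1)) &&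
    !(decide (trW w = -1) && killB w 1 1 2 1)

theorem mix_ok : allW.all mixB = true := by decide +kernel

/-- Roots are proportional modulo primes above three only to themselves and their negatives. -/
noncomputable def propB : Bool :=
  (List.finRange model.tab.n).all fun a =>
    ((List.finRange model.tab.l).any fun i =>
      ([1, 2, 3, 4] : List ℕ).elem (cf model a i).natAbs) &&
    (List.finRange model.tab.n).all fun b => decide (a = b) || decide (a = model.S.neg b) ||
      (List.finRange model.tab.l).any fun i => (List.finRange model.tab.l).any fun j =>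
        ([1, 2, 3, 4, 6, 8, 9, 12] : List ℕ).elem (cf model a i * cf model b j - cf model a j * cf model b i).natAbs

theorem prop_ok : propB = true := by decide +kernel

end Cfsg.Agent.CG26.F4Graph
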