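import Cfsg.Agent.CG26.F4Graph.Frame
import Cfsg.Agent.CG26.F4Graph.Weyl
import Cfsg.Agent.ChevTori.Arith
import Cfsg.Agent.ChevTori.EigenDvd
import Cfsg.Agent.ChevFixed.F4
import Cfsg.Agent.ChevGroup.Mat.OrderF4
import Cfsg.Agent.WeylGroup.F4

/-!
Elements of prime order `r` of F4(q) with `q` of order `3, 4, 6, 8` or `12` modulo `r`: which commute with
elements of another such prime order.
-/

set_option autoImplicit false
set_option maxRecDepth 20000

namespace Cfsg.Agent.CG26.F4Graph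

open Cfsg.Lie Cfsg.Agent.ChevGroup Cfsg.Agent.ChevCore Cfsg.Agent.ChevTori Cfsg.Agent.ChevFixed Matrix
open Cfsg.Agent.ChevGroup.TypeF4 (model wit_ok longest_ok pos_span)
open Polynomial

universe u

theorem hC4 : CommGood chevF4 := uGoodF4.toCommGood

theorem hG4 : Good chevF4 := uGoodF4.toCommGood.toGood

theorem fix4 : ∀ x ∈ weyl model, (∀ s, model.S.pos s → model.S.pos (x s)) → x = 1 := fun _ hx h =>
  fix_of_pos model uGoodF4 (ZMod 2) hx h

theorem not_dvd_weyl {r : ℕ} (hr : r.Prime) (h5 : 5 ≤ r) : ¬ r ∣ Nat.card (weyl model) := fun h => by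
  have h1 : r ∣ 2 ^ 7 * 3 ^ 2 := (show (1152 : ℕ) = 2 ^ 7 * 3 ^ 2 by norm_num) ▸ WeylGroup.card_f4 ▸
    h.trans (weyl_card_dvd model (Mx := CoxeterMatrix.F₄) (by decide +kernel))
  rcases hr.dvd_mul.1 h1 with h2 | h2 <;>
    have := Nat.le_of_dvd (by norm_num) (hr.dvd_of_dvd_pow h2) <;> omega

theorem five_le {r q e : ℕ} [Fact r.Prime] (hq : orderOf (q : ZMod r) = e) (he : 3 ≤ e) : 5 ≤ r := by
  have hr : r.Prime := Fact.out
  have h0 : (q : ZMod r) ≠ 0 := fun h' => by rw [h', orderOf_zero] at hq; omega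
  have h1 : e ∣ r - 1 := hq ▸ orderOf_dvd_of_pow_eq_one (ZMod.pow_card_sub_one_eq_one h0)
  have h2 := hr.two_le
  have h3 := Nat.le_of_dvd (by omega) h1
  rcases (show r = 4 ∨ 5 ≤ r by omega) with rfl | h
  · norm_num at hr
  · exact h

theorem dvd_pow_sub_one {r q e : ℕ} (hq : orderOf (q : ZMod r) = e) (hq1 : 1 ≤ q) {d : ℕ} (hd : e ∣ d) :
    r ∣ q ^ d - 1 := by
  rw [← ZMod.natCast_eq_zero_iff, Nat.cast_sub (Nat.one_le_pow _ _ hq1), Nat.cast_pow, Nat.cast_one,
    orderOf_dvd_iff_pow_eq_one.1 (hq ▸ hd), sub_self]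

section ext

variable {F : Type} [Field F] [Fintype F]

theorem card_diag : Nat.card ↥(chevF4.diagonalSubgroup F) = (Fintype.card F - 1) ^ 4 :=
  ChevFixed.TypeF4.card_torus (torusFacts_of_good hG4) (relsOfCommGood hC4 F)

theorem psi_surj : Function.Surjective (psi (F := F) model uGoodF4) :=
  psi_surjective model uGoodF4 card_diag

theorem fac_eq {r : ℕ} [Fact r.Prime] (h5 : 5 ≤ r) (hQ : (Fintype.card F : ZMod r) = 1) :
    (Nat.card ↥(chevF4.group F)).factorization r =
      (Nat.card ↥(rr (F := F) model uGoodF4).H).factorization r := by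
  have hA := torusFacts_of_good hG4
  obtain ⟨N, hN, hrN⟩ := index_of_degrees (Q := Fintype.card F) (a := 24) (l := 4)
    (G := Nat.card ↥(chevF4.group F)) (H := Nat.card ↥(chevF4.diagonalSubgroup F))
    hQ Fintype.card_pos [2, 6, 8, 12] rfl
    (by
      intro d hd hdd
      have h := Nat.le_of_dvd (by simp at hd; omega) hdd
      have hr : r.Prime := Fact.out
      simp only [List.mem_cons, List.not_mem_nil, or_false] at hd
      rcases hd with rfl | rfl | rfl | rfl <;> interval_cases r <;> first | omega | exact absurd hr (by norm_num))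
    card_diag (by
      rw [TypeF4.card_group hA (relsOfCommGood hC4 F) rfl]
      simp [List.prod_cons, mul_assoc])
  rw [hN, model.card_H_eq (relsOfCommGood hC4 F), Nat.factorization_mul Nat.card_pos.ne'
    (show N ≠ 0 by rintro rfl; exact hrN (dvd_zero r)), Finsupp.add_apply,
    Nat.factorization_eq_zero_of_not_dvd hrN, add_zero]

theorem exists_zeta {r : ℕ} [Fact r.Prime] {q d e : ℕ} (hQ : Fintype.card F = q ^ d)
    (hq : orderOf (q : ZMod r) = e) (hq1 : 1 ≤ q) (hd : e ∣ d) : ∃ ζ : Fˣ, orderOf ζ = r := by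
  classical
  exact exists_prime_orderOf_dvd_card' (G := Fˣ) r (by
    rw [Nat.card_eq_fintype_card, Fintype.card_units, hQ]
    exact dvd_pow_sub_one hq hq1 hd)

theorem pow_mem_zpowers {G : Type*} [Group G] {y : G} {r : ℕ} (h : orderOf y = r) (hr : r.Prime) :
    IsPGroup r (Subgroup.zpowers y) :=
  IsPGroup.of_card (n := 1) (by rw [Nat.card_zpowers, h, pow_one])

/-- The centraliser of an element with cyclotomic characteristic polynomial. -/
theorem mem_H_of_single {r q e : ℕ} [Fact r.Prime] (hq : orderOf (q : ZMod r) = e) (he : 3 ≤ e)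
    (hl : e.totient = 4) {ζ : Fˣ} (hζ : orderOf ζ = r) {t : ↥(chevF4.group F)}
    (ht : t ∈ (rr model uGoodF4).H) {v : List (Fin model.tab.l)} {b : Fin model.tab.l → ℤ}
    (hb : psi model uGoodF4 ⟨t, ht⟩ = fun j => ζ ^ b j) (hb0 : (fun j => (b j : ZMod r)) ≠ 0)
    (heig : (Av model v).map (Int.cast : ℤ → ZMod r) *ᵥ (fun j => (b j : ZMod r)) =
      (q : ZMod r) • (fun j => (b j : ZMod r))) :
    (Av model v).charpoly = cyclotomic e ℤ ∧ (∀ s, chi model t s ≠ 1) ∧
      ∀ w, (rr model uGoodF4).nw w * t * ((rr model uGoodF4).nw w)⁻¹ = t → ∀ s, model.S.actw w s = s := by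
  have h5 := five_le hq he
  have hW := not_dvd_weyl (Fact.out : r.Prime) h5
  have hγ : pw model v.reverse ∈ weyl model := prod_mem_weyl model _
  have hcp : (Av model v).charpoly = cyclotomic e ℤ := by
    refine charpoly_eq_cyclotomic (M := orderOf (pw model v.reverse)) ?_ ?_ hq hb0 heig hl
    · rw [← Pg_pow hG4 hγ, pow_orderOf_eq_one, Pg_one hG4]
    · intro hd
      refine hW (hd.trans ?_)
      rw [← Subgroup.orderOf_mk (pw model v.reverse) hγ]
      exact orderOf_dvd_natCard _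
  obtain ⟨j₀, hj₀⟩ := Function.ne_iff.1 hb0
  have hj₀' : ¬ (r : ℤ) ∣ b j₀ := fun hd => hj₀ ((ZMod.intCast_zmod_eq_zero_iff_dvd _ r).2 hd)
  have hreg0 := regular hG4 (model.witness wit_ok) hW ⟨j₀, hj₀'⟩ hγ (by omega) hcp heig
  refine ⟨hcp, fun s e => hreg0 s ((chi_eq_one_iff model uGoodF4 hζ hb s).1 e), fun w hw s => ?_⟩
  have hst := mem_stab model uGoodF4 hζ hb hw
  have h4 := stab_eq_one hG4 fix4 hW hreg0 hst
  have h5 : model.S.actw w.reverse s = s := by rw [← pw_apply, h4]; rfl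
  have h6 := model.S.actw_reverse w s
  rwa [h5] at h6

end ext

variable {F₀ : Type u} [Field F₀] [Fintype F₀] {q : ℕ}

theorem zmod_three_aux : ∀ a : ZMod 3, a ≠ 0 → a ^ 4 - a ^ 2 + 1 ≠ 0 := by decide

/-- An element of prime order commuting with one of order `r`, for `q` of order 8 or 12 modulo `r`. -/
theorem order_of_commute_big (hF : Fintype.card F₀ = q) (hev : Even q) {r s e : ℕ} [Fact r.Prime]
    [Fact s.Prime] (he : e = 8 ∨ e = 12) (hr : orderOf (q : ZMod r) = e) {x z : ↥(chevF4.group F₀)}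
    (hx : orderOf x = r) (hz : orderOf z = s) (hc : x * z = z * x) : orderOf (q : ZMod s) = e := by
  have he3 : 3 ≤ e := by omega
  have hl : e.totient = 4 := by rcases he with rfl | rfl <;> decide
  have hq1 : 1 ≤ q := hF ▸ Fintype.card_pos
  obtain ⟨F, _, _, σ, i, hQ, hσ, hi⟩ := exists_ext hF (d := e) (by omega)
  have h5 := five_le hr he3
  obtain ⟨ζ, hζ⟩ := exists_zeta hQ hr hq1 dvd_rfl
  have hxι : orderOf (mapGroup (D := chevF4) i x) = r := by
    rw [orderOf_injective _ (mapGroup_injective i), hx]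
  obtain ⟨g, -, hg⟩ := conj_into model uGoodF4 (K := ⊤) le_top
    (fac_eq h5 (by rw [hQ, Nat.cast_pow, ← hr, pow_orderOf_eq_one])) (pow_mem_zpowers hxι Fact.out) le_top
  set t := g * mapGroup i x * g⁻¹ with htdef
  have ht : t ∈ (rr model uGoodF4).H := hg _ (Subgroup.mem_zpowers _)
  have hto : orderOf t = r := by
    rw [← hxι]; exact orderOf_injective (MulAut.conj g).toMonoidHom (MulAut.conj g).injective _
  obtain ⟨v, hv⟩ := exists_word model uGoodF4 wit_ok longest_ok pos_span (mapGroup σ g * g⁻¹)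
  obtain ⟨b, hb, hb0, heig⟩ := exists_eigen model uGoodF4 hζ ht hto
    (hv _ _ ht (pow_mem ht q) (twist_eq model uGoodF4 σ i hσ hi g ht))
  obtain ⟨hcp, hreg, hstab⟩ := mem_H_of_single hr he3 hl hζ ht hb hb0 heig
  set t' := g * mapGroup i z * g⁻¹ with ht'def
  have ht' : t' ∈ (rr model uGoodF4).H := mem_H_of_commute model uGoodF4 longest_ok pos_span wit_ok ht hreg
    hstab (by
      rw [ht'def, htdef]
      calc g * mapGroup i z * g⁻¹ * (g * mapGroup i x * g⁻¹) = g * mapGroup i (z * x) * g⁻¹ := by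
            rw [map_mul]; group
        _ = _ := by rw [← hc, map_mul]; group)
  have ht'o : orderOf t' = s := by
    rw [← hz, ← orderOf_injective _ (mapGroup_injective (D := chevF4) i) z]
    exact orderOf_injective (MulAut.conj g).toMonoidHom (MulAut.conj g).injective _
  classical
  obtain ⟨ξ, hξ⟩ := exists_prime_orderOf_dvd_card' (G := Fˣ) s (by
    rw [Nat.card_eq_fintype_card, Fintype.card_units]
    exact ht'o ▸ orderOf_dvd_of_pow_eq_one (pow_card_sub_one model uGoodF4 ht'))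
  obtain ⟨c, -, hc0, hceig⟩ := exists_eigen model uGoodF4 hξ ht' ht'o
    (hv _ _ ht' (pow_mem ht' q) (twist_eq model uGoodF4 σ i hσ hi g ht'))
  have h0 := eval_charpoly_eq_zero hc0 hceig
  rw [hcp, Polynomial.map_cyclotomic] at h0
  have hq0 : (q : ZMod s) ≠ 0 := fun h => by
    rw [h, ← Polynomial.coeff_zero_eq_eval_zero, Polynomial.cyclotomic_coeff_zero _ (by omega)] at h0
    exact one_ne_zero h0
  by_cases hse : s ∣ e
  · exfalso
    have hs : s.Prime := Fact.out
    have hsd : s = 2 ∨ s = 3 ∧ e = 12 := by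
      have h1 : s ≤ e := Nat.le_of_dvd (by omega) hse
      rcases he with rfl | rfl <;> interval_cases s <;> first | omega | exact absurd hs (by norm_num)
    rcases hsd with rfl | ⟨rfl, rfl⟩
    · obtain ⟨k, rfl⟩ := hev
      exact hq0 (by rw [Nat.cast_add]; exact CharTwo.add_self_eq_zero _)
    · have h12 : (cyclotomic 12 (ZMod 3)).eval (q : ZMod 3) = (q : ZMod 3) ^ 4 - (q : ZMod 3) ^ 2 + 1 := by
        have h := cyclotomic_expand_eq_cyclotomic (p := 2) (n := 6) Nat.prime_two (by norm_num) (ZMod 3)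
        rw [show (12 : ℕ) = 6 * 2 from rfl, ← h, cyclotomic_six]
        simp [← pow_mul]
      rw [h12] at h0
      exact zmod_three_aux _ hq0 h0
  · haveI : NeZero (e : ZMod s) := ⟨fun h => hse ((ZMod.natCast_eq_zero_iff e s).1 h)⟩
    exact ((Polynomial.isRoot_cyclotomic_iff.1 h0).eq_orderOf).symm

/-- An element of prime order `s` in the torus descends. -/
theorem exists_order_mul {F : Type} [Field F] [Fintype F] (σ : F →+* F) (i : F₀ →+* F)
    (hσ : ∀ b, σ b = b ^ q) (hi : ∀ b, σ b = b ↔ ∃ y, i y = b) (g : ↥(chevF4.group F))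
    {S : Set ↥(chevF4.group F₀)} (hS : ∀ y ∈ S, g * mapGroup i y * g⁻¹ ∈ (rr model uGoodF4).H)
    (hreg : ∀ a, ∃ y ∈ S, chi model (g * mapGroup i y * g⁻¹) a ≠ 1)
    (hstab : ∀ w, (∀ y ∈ S, (rr model uGoodF4).nw w * (g * mapGroup i y * g⁻¹) * ((rr model uGoodF4).nw w)⁻¹ =
      g * mapGroup i y * g⁻¹) → ∀ a, model.S.actw w a = a)
    {v : List (Fin model.tab.l)}
    (hv : ∀ t t' : ↥(chevF4.group F), t ∈ (rr model uGoodF4).H → t' ∈ (rr model uGoodF4).H →
      mapGroup σ g * g⁻¹ * t * (mapGroup σ g * g⁻¹)⁻¹ = t' →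
      (rr model uGoodF4).nw v * t * ((rr model uGoodF4).nw v)⁻¹ = t')
    {r s : ℕ} [Fact r.Prime] [Fact s.Prime] (hrs : r ≠ s) {x : ↥(chevF4.group F₀)} (hxS : x ∈ S)
    (hx : orderOf x = r) (hs : s ∣ Fintype.card F - 1)
    (h0 : ((Av model v).charpoly.map (Int.castRingHom (ZMod s))).eval (q : ZMod s) = 0) :
    ∃ z : ↥(chevF4.group F₀), orderOf z = r * s := by
  obtain ⟨t, ht, hto, htv⟩ := exists_torus model uGoodF4 psi_surj hs h0
  obtain ⟨y, hy⟩ := exists_descend model uGoodF4 wit_ok longest_ok pos_span σ i hσ hi card_diag g hS hreg hstab hv ht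
    htv
  have hyo : orderOf y = s := by
    rw [← orderOf_injective _ (mapGroup_injective (D := chevF4) i) y, ← hto, ← hy]
    exact (orderOf_injective (MulAut.conj g).toMonoidHom (MulAut.conj g).injective _).symm
  have hc : Commute x y := by
    have h1 := H_commute model uGoodF4 (hS x hxS) (hy ▸ ht : g * mapGroup i y * g⁻¹ ∈ _)
    refine mapGroup_injective (D := chevF4) i ?_
    rw [map_mul, map_mul]
    calc mapGroup i x * mapGroup i y = g⁻¹ * (g * mapGroup i x * g⁻¹ * (g * mapGroup i y * g⁻¹)) * g := by group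
      _ = _ := by rw [h1]; group
  exact ⟨x * y, by
    rw [hc.orderOf_mul_eq_mul_orderOf_of_coprime (by
      rw [hx, hyo]; exact (Nat.coprime_primes Fact.out Fact.out).2 hrs), hx, hyo]⟩

/-- Two primes of the same order 8 or 12 are adjacent. -/
theorem exists_order_big (hF : Fintype.card F₀ = q) {r s e : ℕ} [Fact r.Prime] [Fact s.Prime] (he : e = 8 ∨ e = 12)
    (hr : orderOf (q : ZMod r) = e) (hs : orderOf (q : ZMod s) = e) (hrs : r ≠ s)
    (hdiv : r ∣ Nat.card ↥(chevF4.group F₀)) : ∃ z : ↥(chevF4.group F₀), orderOf z = r * s := by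
  have he3 : 3 ≤ e := by omega
  have hl : e.totient = 4 := by rcases he with rfl | rfl <;> decide
  have hq1 : 1 ≤ q := hF ▸ Fintype.card_pos
  obtain ⟨F, _, _, σ, i, hQ, hσ, hi⟩ := exists_ext hF (d := e) (by omega)
  have h5 := five_le hr he3
  obtain ⟨x, hx⟩ := exists_prime_orderOf_dvd_card' r hdiv
  obtain ⟨ζ, hζ⟩ := exists_zeta hQ hr hq1 dvd_rfl
  have hxι : orderOf (mapGroup (D := chevF4) i x) = r := by
    rw [orderOf_injective _ (mapGroup_injective i), hx]
  obtain ⟨g, -, hg⟩ := conj_into model uGoodF4 (K := ⊤) le_top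
    (fac_eq h5 (by rw [hQ, Nat.cast_pow, ← hr, pow_orderOf_eq_one])) (pow_mem_zpowers hxι Fact.out) le_top
  set t := g * mapGroup i x * g⁻¹ with htdef
  have ht : t ∈ (rr model uGoodF4).H := hg _ (Subgroup.mem_zpowers _)
  have hto : orderOf t = r := by
    rw [← hxι]; exact orderOf_injective (MulAut.conj g).toMonoidHom (MulAut.conj g).injective _
  obtain ⟨v, hv⟩ := exists_word model uGoodF4 wit_ok longest_ok pos_span (mapGroup σ g * g⁻¹)
  obtain ⟨b, hb, hb0, heig⟩ := exists_eigen model uGoodF4 hζ ht hto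
    (hv _ _ ht (pow_mem ht q) (twist_eq model uGoodF4 σ i hσ hi g ht))
  obtain ⟨hcp, hreg, hstab⟩ := mem_H_of_single hr he3 hl hζ ht hb hb0 heig
  refine exists_order_mul σ i hσ hi g (S := {x}) (fun y hy => by rw [Set.mem_singleton_iff.1 hy]; exact ht)
    (fun a => ⟨x, rfl, hreg a⟩) (fun w hw => hstab w (hw x rfl)) hv hrs rfl hx ?_ ?_
  · rw [hQ]; exact dvd_pow_sub_one hs hq1 dvd_rfl
  · rw [hcp, Polynomial.map_cyclotomic]
    exact eval_cyclotomic_eq_zero hs (by omega)

theorem cyclotomic_four : cyclotomic 4 ℤ = Polynomial.X ^ 2 + 1 := by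
  have h := cyclotomic_expand_eq_cyclotomic (p := 2) (n := 2) Nat.prime_two dvd_rfl ℤ
  rw [cyclotomic_two] at h
  rw [show (4 : ℕ) = 2 * 2 from rfl, ← h]
  simp

/-- The entries of the powers of the matrix of a word. -/
theorem cf_pow {γ : Equiv.Perm (Fin model.tab.n)} (hγ : γ ∈ weyl model) (m : ℕ) (j k : Fin model.tab.l) :
    cf model ((γ ^ m) (model.S.simple j)) k = (Pg model γ ^ m) j k := by
  rw [← Pg_pow hG4 hγ]
  rfl

/-- No element of the Weyl group has two of the eigenvalue orders 3, 4, 6. -/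
theorem not_mixed {γ : Equiv.Perm (Fin model.tab.n)} (hγ : γ ∈ weyl model) {k l : ℕ}
    (hkl : (k = 6 ∧ l = 3) ∨ (k = 6 ∧ l = 4) ∨ (k = 4 ∧ l = 3))
    (hk : cyclotomic k ℤ ∣ (Pg model γ).charpoly) (hl : cyclotomic l ℤ ∣ (Pg model γ).charpoly) : False := by
  have hcop : IsCoprime (cyclotomic k ℚ) (cyclotomic l ℚ) :=
    cyclotomic.isCoprime_rat (by omega)
  set A := Pg model γ with hA
  have hprod : A.charpoly = cyclotomic k ℤ * cyclotomic l ℤ := by
    apply Polynomial.map_injective (Int.castRingHom ℚ) Int.cast_injective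
    have h1 := hcop.mul_dvd
      (map_cyclotomic k (Int.castRingHom ℚ) ▸ Polynomial.map_dvd (Int.castRingHom ℚ) hk)
      (map_cyclotomic l (Int.castRingHom ℚ) ▸ Polynomial.map_dvd (Int.castRingHom ℚ) hl)
    rw [Polynomial.map_mul, map_cyclotomic, map_cyclotomic]
    refine (Polynomial.eq_of_monic_of_dvd_of_natDegree_le ((cyclotomic.monic k ℚ).mul (cyclotomic.monic l ℚ))
      (A.charpoly_monic.map _) h1 ?_)
    rw [Polynomial.natDegree_map_eq_of_injective Int.cast_injective, A.charpoly_natDegree_eq_dim,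
      (cyclotomic.monic k ℚ).natDegree_mul (cyclotomic.monic l ℚ), natDegree_cyclotomic, natDegree_cyclotomic]
    rcases hkl with ⟨rfl, rfl⟩ | ⟨rfl, rfl⟩ | ⟨rfl, rfl⟩ <;> decide
  obtain ⟨w, hw, hact⟩ := exists_mem_allW hγ
  have hmix := List.all_eq_true.1 mix_ok w hw
  have htr : trW w = A.trace := by
    rw [trW, Matrix.trace, Fin.sum_univ_def]
    show _ = (List.map (fun j => A j j) (List.finRange model.tab.l)).sum
    rw [show (fun j => A j j) = fun j => cf model (model.S.actw w (model.S.simple j)) j from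
      funext fun j => by rw [← hact]; rfl]
    induction (List.map (fun j => cf model (model.S.actw w (model.S.simple j)) j)
      (List.finRange model.tab.l)) with
    | nil => rfl
    | cons a L ih => rw [List.sum_cons, ← ih]; rfl
  have hkill : ∀ c0 c1 c2 c3 : ℤ,
      A.charpoly = C c0 + C c1 * Polynomial.X + C c2 * Polynomial.X ^ 2 + C c3 * Polynomial.X ^ 3 + Polynomial.X ^ 4 →
      killB w c0 c1 c2 c3 = true ∧ trW w = -c3 := by
    intro c0 c1 c2 c3 he
    constructor
    · have h0 := Matrix.aeval_self_charpoly A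
      rw [he] at h0
      simp only [map_add, map_mul, aeval_C, aeval_X, map_pow, Algebra.algebraMap_eq_smul_one, smul_mul_assoc,
        one_mul] at h0
      simp only [killB, List.all_eq_true, decide_eq_true_eq]
      intro j _ k _
      have h1 := congrFun (congrFun h0 j) k
      simp only [Matrix.add_apply, Matrix.smul_apply, Matrix.zero_apply, smul_eq_mul] at h1
      rw [hA, ← pow_one (Pg model γ), ← pow_zero (Pg model γ)] at h1
      simp only [← pow_mul, one_mul, ← cf_pow hγ] at h1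
      simp only [pow_succ', pow_zero, Equiv.Perm.mul_apply, Equiv.Perm.one_apply, hact] at h1
      exact h1
    · haveI : Nonempty (Fin model.tab.l) := ⟨⟨0, by decide⟩⟩
      rw [htr, Matrix.trace_eq_neg_charpoly_coeff, he]
      have hl : model.tab.l = 4 := by decide
      simp only [Fintype.card_fin, hl, Polynomial.coeff_add, Polynomial.coeff_C_mul, Polynomial.coeff_X_pow,
        Polynomial.coeff_C, Polynomial.coeff_X]
      norm_num
  simp only [mixB, Bool.and_eq_true, Bool.not_eq_true', Bool.and_eq_false_imp, decide_eq_true_eq] at hmix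
  rcases hkl with ⟨rfl, rfl⟩ | ⟨rfl, rfl⟩ | ⟨rfl, rfl⟩
  · obtain ⟨h1, h2⟩ := hkill 1 0 1 0 (by rw [hprod, cyclotomic_six, cyclotomic_three]; simp; ring)
    have := hmix.1.1 (by simpa using h2)
    simp [this] at h1
  · obtain ⟨h1, h2⟩ := hkill 1 (-1) 2 (-1) (by rw [hprod, cyclotomic_six, cyclotomic_four]; simp; ring)
    have := hmix.1.2 (by simpa using h2)
    simp [this] at h1
  · obtain ⟨h1, h2⟩ := hkill 1 1 2 1 (by rw [hprod, cyclotomic_four, cyclotomic_three]; simp; ring)
    have := hmix.2 (by simpa using h2)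
    simp [this] at h1

/-- Commuting elements of prime orders with two of the orders 3, 4, 6. -/
theorem not_commute_mixed (hF : Fintype.card F₀ = q) {r s k l : ℕ} [Fact r.Prime] [Fact s.Prime]
    (hkl : (k = 6 ∧ l = 3) ∨ (k = 6 ∧ l = 4) ∨ (k = 4 ∧ l = 3))
    (hr : orderOf (q : ZMod r) = k) (hs : orderOf (q : ZMod s) = l) {x z : ↥(chevF4.group F₀)}
    (hx : orderOf x = r) (hz : orderOf z = s) (hc : x * z = z * x) : False := by
  have hk3 : 3 ≤ k := by omega
  have hl3 : 3 ≤ l := by omega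
  have hq1 : 1 ≤ q := hF ▸ Fintype.card_pos
  obtain ⟨F, _, _, σ, i, hQ, hσ, hi⟩ := exists_ext hF (d := 12) (by omega)
  have hk : k ∣ 12 := by rcases hkl with ⟨rfl, -⟩ | ⟨rfl, -⟩ | ⟨rfl, -⟩ <;> norm_num
  have hl : l ∣ 12 := by rcases hkl with ⟨-, rfl⟩ | ⟨-, rfl⟩ | ⟨-, rfl⟩ <;> norm_num
  have h5r := five_le hr hk3
  have h5s := five_le hs hl3
  obtain ⟨ζ, hζ⟩ := exists_zeta hQ hr hq1 hk
  obtain ⟨ξ, hξ⟩ := exists_zeta hQ hs hq1 hl
  have hfr := fac_eq (F := F) h5r (by rw [hQ, Nat.cast_pow, orderOf_dvd_iff_pow_eq_one.1 (hr ▸ hk)])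
  have hfs := fac_eq (F := F) h5s (by rw [hQ, Nat.cast_pow, orderOf_dvd_iff_pow_eq_one.1 (hs ▸ hl)])
  have hxι : orderOf (mapGroup (D := chevF4) i x) = r := by
    rw [orderOf_injective _ (mapGroup_injective i), hx]
  obtain ⟨g₁, -, hg₁⟩ := conj_into model uGoodF4 (K := ⊤) le_top hfr (pow_mem_zpowers hxι Fact.out) le_top
  set t₀ := g₁ * mapGroup i x * g₁⁻¹ with ht₀def
  have ht₀ : t₀ ∈ (rr model uGoodF4).H := hg₁ _ (Subgroup.mem_zpowers _)
  have hzι : orderOf (g₁ * mapGroup i z * g₁⁻¹) = s := by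
    rw [← hz, ← orderOf_injective _ (mapGroup_injective (D := chevF4) i) z]
    exact orderOf_injective (MulAut.conj g₁).toMonoidHom (MulAut.conj g₁).injective _
  obtain ⟨g₂, hg₂K, hg₂⟩ := conj_into model uGoodF4 (K := Subgroup.centralizer {t₀})
    (fun h hh => Subgroup.mem_centralizer_singleton_iff.2 (H_commute model uGoodF4 hh ht₀)) hfs
    (pow_mem_zpowers hzι Fact.out) (by
      rw [Subgroup.zpowers_le, Subgroup.mem_centralizer_singleton_iff, ht₀def]
      calc g₁ * mapGroup i z * g₁⁻¹ * (g₁ * mapGroup i x * g₁⁻¹) = g₁ * mapGroup i (z * x) * g₁⁻¹ := by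
            rw [map_mul]; group
        _ = _ := by rw [← hc, map_mul]; group)
  set g := g₂ * g₁ with hgdef
  set t := g * mapGroup i x * g⁻¹ with htdef
  set t' := g * mapGroup i z * g⁻¹ with ht'def
  have htt : t = t₀ := by
    have h := Subgroup.mem_centralizer_singleton_iff.1 hg₂K
    rw [htdef, hgdef]
    calc g₂ * g₁ * mapGroup i x * (g₂ * g₁)⁻¹ = g₂ * t₀ * g₂⁻¹ := by rw [ht₀def]; group
      _ = _ := by rw [h, mul_inv_cancel_right]
  have ht : t ∈ (rr model uGoodF4).H := htt ▸ ht₀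
  have ht' : t' ∈ (rr model uGoodF4).H := by
    have h := hg₂ _ (Subgroup.mem_zpowers _)
    rw [ht'def, hgdef]
    convert h using 1
    group
  have hto : orderOf t = r := by
    rw [← hxι]; exact orderOf_injective (MulAut.conj g).toMonoidHom (MulAut.conj g).injective _
  have ht'o : orderOf t' = s := by
    rw [← hz, ← orderOf_injective _ (mapGroup_injective (D := chevF4) i) z]
    exact orderOf_injective (MulAut.conj g).toMonoidHom (MulAut.conj g).injective _
  obtain ⟨v, hv⟩ := exists_word model uGoodF4 wit_ok longest_ok pos_span (mapGroup σ g * g⁻¹)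
  obtain ⟨b, -, hb0, heig⟩ := exists_eigen model uGoodF4 hζ ht hto
    (hv _ _ ht (pow_mem ht q) (twist_eq model uGoodF4 σ i hσ hi g ht))
  obtain ⟨c, -, hc0, hceig⟩ := exists_eigen model uGoodF4 hξ ht' ht'o
    (hv _ _ ht' (pow_mem ht' q) (twist_eq model uGoodF4 σ i hσ hi g ht'))
  exact not_mixed (prod_mem_weyl model v.reverse) hkl
    (cyclotomic_dvd model uGoodF4 hr (not_dvd_weyl Fact.out h5r) hb0 heig)
    (cyclotomic_dvd model uGoodF4 hs (not_dvd_weyl Fact.out h5s) hc0 hceig)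

end Cfsg.Agent.CG26.F4Graph
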